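import Cfsg.Agent.H9.Loc2
import Cfsg.Agent.H8.Char4

set_option autoImplicit false

namespace H9

open MulAction Subgroup Cfsg

universe u

variable {G : Type*} [Group G]

theorem relIndex_sup_of_normalizer [Finite G] {C N : Subgroup G}
    (h : C ≤ normalizer (N : Set G)) : C.relIndex (N ⊔ C) = C.relIndex N := by
  have h1 := H5.card_sup_mul_card_inf h
  have h2 := H5.card_inf_mul_relIndex C N
  have h3 := H5.card_mul_relIndex (le_sup_right : C ≤ N ⊔ C)
  rw [inf_comm] at h2
  rw [← h3, ← h2] at h1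
  apply Nat.eq_of_mul_eq_mul_left (Nat.mul_pos (Nat.card_pos (α := C))
    (Nat.card_pos (α := ↥(N ⊓ C))))
  linarith

theorem relIndex_dvd_index_of_normal' [Finite G] (C N : Subgroup G) [N.Normal] :
    C.relIndex N ∣ C.index := by
  rw [← relIndex_sup_of_normalizer (le_normalizer_of_normal)]
  exact relIndex_dvd_index_of_le le_sup_right

theorem le_of_index_dvd_pow [Finite G] {p k : ℕ} {C N : Subgroup G} (hC : C.index ∣ p ^ k)
    (hn : C ≤ normalizer (N : Set G)) (hN : (Nat.card N).Coprime p) : N ≤ C := by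
  rw [← relIndex_eq_one, ← relIndex_sup_of_normalizer hn]
  apply Nat.eq_one_of_dvd_coprimes (Nat.Coprime.pow_right k hN)
  · rw [relIndex_sup_of_normalizer hn]; exact relIndex_dvd_card C N
  · exact (relIndex_dvd_index_of_le le_sup_right).trans hC

theorem card_quotient_lt [Finite G] {N : Subgroup G} (h : N ≠ ⊥) :
    Nat.card (G ⧸ N) < Nat.card G := by
  rw [card_eq_card_quotient_mul_card_subgroup N]
  exact lt_mul_of_one_lt_right Nat.card_pos ((one_lt_card_iff_ne_bot N).2 h)

theorem hall_conj_aux {p : ℕ} [hp : Fact p.Prime] (n : ℕ) :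
    ∀ (G : Type u) [Group G] [Finite G], Nat.card G = n → Group.IsSolvable G →
      ∀ (C X : Subgroup G) (k : ℕ), (Nat.card C).Coprime p → C.index ∣ p ^ k →
        (Nat.card X).Coprime p → ∃ g : G, H4.conjS g X ≤ C := by
  induction n using Nat.strong_induction_on with | _ n ih => ?_
  intro G _ _ hn hs C X k hC hk hX
  rcases subsingleton_or_nontrivial G with h | h
  · exact ⟨1, fun x _ => Subsingleton.elim 1 x ▸ one_mem C⟩
  obtain ⟨r, N, hr, hN0, hNe, hN⟩ := H5.exists_normal_pgroup hs
  have : Fact r.Prime := ⟨hr⟩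
  let f := QuotientGroup.mk' N
  have hf : Function.Surjective f := QuotientGroup.mk'_surjective N
  obtain ⟨g, hg⟩ := ih _ (hn ▸ card_quotient_lt hN0) (G ⧸ N) rfl inferInstance (C.map f) (X.map f) k
    (H4.coprime_card_map hC f) ((index_map_dvd C hf).trans hk) (H4.coprime_card_map hX f)
  obtain ⟨g, rfl⟩ := hf g
  have h1 : H4.conjS g X ≤ N ⊔ C := by
    intro x hx
    have : f x ∈ C.map f := hg (by
      rw [H4.mem_conjS] at hx ⊢
      exact ⟨_, hx, by simp⟩)
    rw [← mem_comap, comap_map_eq, QuotientGroup.ker_mk', sup_comm] at this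
    exact this
  by_cases hrp : r = p
  · subst hrp
    have hNp := H5.isPGroup_of_elem hNe
    obtain ⟨j, hj⟩ := IsPGroup.iff_card.1 hNp
    obtain ⟨c, -, hc⟩ := H5.exists_conj_le (A := C) (K := N) le_normalizer_of_normal
      (hj ▸ hC.pow_right j) (Or.inr (H5.isSolvable_of_isPGroup hNp)) h1
      (by rw [H4.card_conjS, hj]; exact hX.pow_right j)
    exact ⟨c * g, by rw [← H4.conjS_conjS]; exact hc⟩
  · refine ⟨g, h1.trans (sup_le (le_of_index_dvd_pow hk le_normalizer_of_normal ?_) le_rfl)⟩
    exact H4.coprime_card_of_pGroup hrp (H5.isPGroup_of_elem hNe)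

/-- P. Hall: every `p'`-subgroup of a solvable group is conjugate into a given Hall
`p'`-subgroup. -/
theorem hall_conj [Finite G] {p : ℕ} [Fact p.Prime] (hs : Group.IsSolvable G) {C X : Subgroup G}
    {k : ℕ} (hC : (Nat.card C).Coprime p) (hk : C.index ∣ p ^ k) (hX : (Nat.card X).Coprime p) :
    ∃ g : G, H4.conjS g X ≤ C :=
  hall_conj_aux _ G rfl hs C X k hC hk hX

theorem hall_exists_aux {p : ℕ} [hp : Fact p.Prime] (n : ℕ) :
    ∀ (G : Type u) [Group G] [Finite G], Nat.card G = n → Group.IsSolvable G →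
      ∃ (C : Subgroup G) (k : ℕ), (Nat.card C).Coprime p ∧ C.index = p ^ k := by
  induction n using Nat.strong_induction_on with | _ n ih => ?_
  intro G _ _ hn hs
  rcases subsingleton_or_nontrivial G with h | h
  · exact ⟨⊤, 0, by simp, by simp⟩
  obtain ⟨r, N, hr, hN0, hNe, hN⟩ := H5.exists_normal_pgroup hs
  have : Fact r.Prime := ⟨hr⟩
  let f := QuotientGroup.mk' N
  have hf : Function.Surjective f := QuotientGroup.mk'_surjective N
  obtain ⟨C, k, hC, hk⟩ := ih _ (hn ▸ card_quotient_lt hN0) (G ⧸ N) rfl inferInstance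
  rw [← index_comap_of_surjective _ hf] at hk
  by_cases hrp : r = p
  · subst hrp
    have hNp := H5.isPGroup_of_elem hNe
    obtain ⟨j, hj⟩ := IsPGroup.iff_card.1 hNp
    have hNK : N ≤ C.comap f := fun x hx => by
      rw [mem_comap, show f x = 1 from (QuotientGroup.eq_one_iff x).2 hx]; exact one_mem _
    have e : N.relIndex (C.comap f) = Nat.card C := by
      have h1 := H4.card_eq_card_map_mul f (C.comap f)
      rw [map_comap_eq_self_of_surjective hf, QuotientGroup.ker_mk', inf_eq_right.2 hNK,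
        ← H5.card_mul_relIndex hNK, mul_comm] at h1
      exact Nat.eq_of_mul_eq_mul_right Nat.card_pos h1
    obtain ⟨Q, h1, -, -, h4⟩ := H5.exists_complement_of_coprime hNK le_normalizer_of_normal
      (by rw [hj, e]; exact (hC.pow_right j).symm)
    refine ⟨Q, j + k, by rw [h4, e]; exact hC, ?_⟩
    rw [← relIndex_mul_index h1, hk, pow_add]
    congr 1
    have h5 := H5.card_mul_relIndex h1
    rw [← H5.card_mul_relIndex hNK, h4, hj, mul_comm] at h5
    exact Nat.eq_of_mul_eq_mul_right (h4 ▸ Nat.card_pos) h5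
  · refine ⟨C.comap f, k, H4.coprime_card_comap f hC ?_, hk⟩
    rw [QuotientGroup.ker_mk']
    exact H4.coprime_card_of_pGroup hrp (H5.isPGroup_of_elem hNe)

/-- P. Hall: a solvable group has a Hall `p'`-subgroup. -/
theorem hall_exists (G : Type*) [Group G] [Finite G] (p : ℕ) [Fact p.Prime]
    (hs : Group.IsSolvable G) :
    ∃ (C : Subgroup G) (k : ℕ), (Nat.card C).Coprime p ∧ C.index = p ^ k :=
  hall_exists_aux _ G rfl hs

theorem isComplement'_sylow [Finite G] {p : ℕ} [hp : Fact p.Prime] (P : Sylow p G)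
    {C : Subgroup G} {k : ℕ} (hC : (Nat.card C).Coprime p) (hk : C.index ∣ p ^ k) :
    IsComplement' (P : Subgroup G) C := by
  obtain ⟨j, -, hj⟩ := (Nat.dvd_prime_pow hp.out).1 hk
  have h1 := card_sylow_eq P (by rw [← hj]; exact C.index_mul_card.symm)
    (hp.out.coprime_iff_not_dvd.1 hC.symm)
  exact isComplement'_of_coprime (by rw [h1, ← hj, C.index_mul_card])
    (by rw [h1]; exact (hC.pow_right j).symm)

theorem isSolvable_aux {p : ℕ} [hp : Fact p.Prime] (n : ℕ) :
    ∀ (G : Type u) [Group G] [Finite G], Nat.card G = n →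
      ∀ (C : Subgroup G) (k : ℕ), IsMulCommutative C → C.index ∣ p ^ k → Group.IsSolvable G := by
  induction n using Nat.strong_induction_on with | _ n ih => ?_
  intro G _ _ hn C k hC hk
  rcases subsingleton_or_nontrivial G with h | h
  · infer_instance
  by_cases hs : IsSimpleGroup G
  · by_cases hc : IsMulCommutative G
    · exact Group.isSolvable_of_comm hc.1.1
    · have : C = ⊥ := (eq_bot_iff_forall C).2 fun x hx =>
        H8.eq_one_of_centralizes_of_index_prime_pow hc C hp.out hk
          (H5.le_centralizer_singleton_of_comm hC hx)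
      rw [this, index_bot] at hk
      obtain ⟨j, -, hj⟩ := (Nat.dvd_prime_pow hp.out).1 hk
      have := (IsPGroup.of_card hj).isNilpotent
      infer_instance
  · obtain ⟨N, hN, h1, h2⟩ : ∃ N : Subgroup G, N.Normal ∧ N ≠ ⊥ ∧ N ≠ ⊤ := by
      by_contra hcon
      push Not at hcon
      exact hs ⟨fun N hN => or_iff_not_imp_left.2 (hcon N hN)⟩
    have a1 : Group.IsSolvable N := ih _ (by
      rw [← hn, ← card_top (G := G)]; exact H5.card_lt_of_lt (lt_top_iff_ne_top.2 h2)) N rfl
      (C.subgroupOf N) k (H5.isMulCommutative_of_forall fun a ha b hb =>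
        Subtype.ext (H5.comm_of_isMulCommutative hC ha hb))
      ((relIndex_dvd_index_of_normal' C N).trans hk)
    have a2 : Group.IsSolvable (G ⧸ N) := ih _ (hn ▸ card_quotient_lt h1) (G ⧸ N) rfl
      (C.map (QuotientGroup.mk' N)) k inferInstance
      ((index_map_dvd C (QuotientGroup.mk'_surjective N)).trans hk)
    exact Group.isSolvable_of_ker_le_range N.subtype (QuotientGroup.mk' N) (by simp)

/-- a group with an abelian subgroup of prime power index is solvable -/
theorem isSolvable_of_abelian_index [Finite G] {p : ℕ} [Fact p.Prime] {C : Subgroup G} {k : ℕ}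
    (hC : IsMulCommutative C) (hk : C.index ∣ p ^ k) : Group.IsSolvable G :=
  isSolvable_aux _ G rfl C k hC hk

end H9
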