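import Mathlib.GroupTheory.Index
import Mathlib.GroupTheory.GroupAction.Quotient
import Mathlib.GroupTheory.OrderOfElement
import Mathlib.Tactic.Group

set_option autoImplicit false

namespace H9

open Subgroup

/-- Gaschütz's theorem in the form: a derivation `π : U → A` that is the identity on the
abelian normal subgroup `A ≤ U`, with `|A|` coprime to `[G:U]`, gives a complement of `A`. -/
theorem gaschutz_aux {G : Type*} [Group G] [Finite G] (A U : Subgroup G) [hA : A.Normal]
    (hc : ∀ a ∈ A, ∀ b ∈ A, a * b = b * a) (hAU : A ≤ U)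
    (hcop : (Nat.card A).Coprime U.index) (π : G → G) (hπA : ∀ u ∈ U, π u ∈ A)
    (hπ : ∀ u ∈ U, ∀ v ∈ U, π (u * v) = π u * (u * π v * u⁻¹)) (hid : ∀ a ∈ A, π a = a) :
    ∃ J : Subgroup G, A ⊔ J = ⊤ ∧ A ⊓ J = ⊥ := by
  classical
  have : Fintype (G ⧸ U) := Fintype.ofFinite _
  letI : CommGroup A := { (inferInstance : Group A) with
    mul_comm := fun a b => Subtype.ext (hc a a.2 b b.2) }
  let cj : G → A →* A := fun g =>
    { toFun := fun a => ⟨g * a * g⁻¹, hA.conj_mem a a.2 g⟩
      map_one' := Subtype.ext (by simp)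
      map_mul' := fun a b => Subtype.ext (by simp [mul_assoc]) }
  have hmem : ∀ (g : G) (c : G ⧸ U), (g • c).out⁻¹ * g * c.out ∈ U := by
    intro g c
    rw [mul_assoc, ← QuotientGroup.eq, QuotientGroup.out_eq']
    conv_lhs => rw [← QuotientGroup.out_eq' c]
    rfl
  let t : G → G ⧸ U → A := fun g c =>
    ⟨(g • c).out * π ((g • c).out⁻¹ * g * c.out) * (g • c).out⁻¹,
      hA.conj_mem _ (hπA _ (hmem g c)) _⟩
  let δ : G → A := fun g => ∏ c, t g c
  have hδ : ∀ g h, δ (g * h) = δ g * cj g (δ h) := by
    intro g h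
    have e1 : δ g = ∏ c, t g (h • c) :=
      (Equiv.prod_comp (MulAction.toPerm h) (fun c => t g c)).symm
    rw [e1]
    simp only [δ, map_prod, ← Finset.prod_mul_distrib]
    refine Finset.prod_congr rfl fun c _ => Subtype.ext ?_
    have e2 : ((g * h) • c).out⁻¹ * (g * h) * c.out =
        ((g • h • c).out⁻¹ * g * (h • c).out) * ((h • c).out⁻¹ * h * c.out) := by
      rw [mul_smul]; group
    simp only [t, cj, MonoidHom.coe_mk, OneHom.coe_mk, Subgroup.coe_mul]
    rw [e2, hπ _ (hmem g _) _ (hmem h c), mul_smul]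
    group
  have hδA : ∀ a : A, δ a = a ^ U.index := by
    intro a
    have e1 : ∀ c : G ⧸ U, t a c = a := by
      intro c
      have e2 : (a : G) • c = c := by
        conv_lhs => rw [← QuotientGroup.out_eq' c]
        conv_rhs => rw [← QuotientGroup.out_eq' c]
        rw [MulAction.Quotient.smul_mk, eq_comm, QuotientGroup.eq, smul_eq_mul, ← mul_assoc]
        exact hAU (hA.conj_mem' a a.2 _)
      apply Subtype.ext
      simp only [t, e2]
      rw [hid _ (hA.conj_mem' a a.2 _)]
      group
    simp only [δ, e1, Finset.prod_const, Finset.card_univ]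
    rw [U.index_eq_card, Nat.card_eq_fintype_card]
  have hδ1 : δ 1 = 1 := by
    have := hδA 1
    simpa using this
  let J : Subgroup G :=
    { carrier := {g | δ g = 1}
      one_mem' := hδ1
      mul_mem' := fun {g h} hg hh => by
        simp only [Set.mem_setOf_eq] at hg hh ⊢
        rw [hδ, hg, hh, map_one, one_mul]
      inv_mem' := fun {g} hg => by
        simp only [Set.mem_setOf_eq] at hg ⊢
        have := hδ g⁻¹ g
        rw [inv_mul_cancel, hδ1, hg, map_one, mul_one] at this
        exact this.symm }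
  have hbij : Function.Bijective (fun a : A => a ^ U.index) := (powCoprime hcop).bijective
  refine ⟨J, ?_, ?_⟩
  · rw [eq_top_iff]
    intro g _
    obtain ⟨a, ha⟩ := hbij.2 (δ g)⁻¹
    have e1 : (a : G) * g ∈ J := by
      change δ (a * g) = 1
      rw [hδ, hδA]
      have : cj a (δ g) = δ g := Subtype.ext (by
        change (a : G) * δ g * (a : G)⁻¹ = δ g
        rw [hc _ a.2 _ (δ g).2]; simp)
      rw [this]
      simp only at ha
      rw [ha, inv_mul_cancel]
    have := mul_mem (mem_sup_left (T := J) (inv_mem a.2)) (mem_sup_right (S := A) e1)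
    simpa using this
  · rw [eq_bot_iff]
    rintro a ⟨h1, h2⟩
    have e1 : δ a = 1 := h2
    have e2 := hδA ⟨a, h1⟩
    have e3 : (⟨a, h1⟩ : A) = 1 := hbij.1 (by simp only; rw [← e2, one_pow]; exact e1)
    exact congrArg Subtype.val e3

end H9
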