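import Cfsg.Agent.H9.Psl2Prime
import Cfsg.Agent.H9.Tools2
import Cfsg.Agent.H9.FieldCoord
import Cfsg.Agent.H8.Count

set_option autoImplicit false

namespace H9

open MulAction Matrix Subgroup
open scoped MatrixGroups

/-- Recognition of `SL(2, 2^n)`. -/
theorem iso_psl2_even {F : Type*} [Field F] [Finite F] {G : Type*} [Group G] [Finite G]
    [IsSimpleGroup G] (h4 : 4 ≤ Nat.card F) (hF : ringChar F = 2) (S : Subgroup G)
    (hS : Nat.card S = Nat.card F) (h2 : ∀ s ∈ S, s ^ 2 = 1)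
    (hC : ∀ s ∈ S, s ≠ 1 → Cen s = S)
    (hconj : ∀ s ∈ S, s ≠ 1 → ∀ t ∈ S, t ≠ 1 → IsConj s t)
    (hG : Nat.card G = (Nat.card F + 1) * (Nat.card F * (Nat.card F - 1))) :
    Nonempty (G ≃* PSL(2, F)) := by
  classical
  set q := Nat.card F with hq
  set N := normalizer (S : Set G) with hN
  have hcomm : ∀ a ∈ S, ∀ b ∈ S, a * b = b * a := by
    intro a ha b hb
    by_cases h : a = 1
    · simp [h]
    · exact mem_Cen.1 ((hC a ha h).symm ▸ hb)
  have hcard1 : Nat.card {g : G // g ∈ S ∧ g ≠ 1} = q - 1 := by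
    have := card_subtype_mem_ne_one S
    omega
  obtain ⟨⟨s0, hs0, hs1⟩⟩ : Nonempty {g : G // g ∈ S ∧ g ≠ 1} :=
    (Nat.card_ne_zero.1 (by omega)).1
  have hnorm : ∀ s ∈ S, s ≠ 1 → ∀ g : G, g * s * g⁻¹ ∈ S → g ∈ N := by
    intro s hs h1 g hg
    apply mem_normalizer_of_conj_mem
    intro a ha
    have h3 : g * s * g⁻¹ ≠ 1 := fun h => h1 (by simpa using h)
    rw [← hC _ hg h3, mem_Cen_conj, hC s hs h1]
    simpa [mul_assoc] using ha
  have hNcard : Nat.card N = q * (q - 1) := by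
    have := H8.card_conj_mem s0 (S : Set G)
    rw [show centralizer ({s0} : Set G) = S from hC s0 hs0 hs1, hS] at this
    rw [← hcard1, card_subtype_congr (A := fun g : G => g ∈ S ∧ g ≠ 1)
      (B := fun y => IsConj s0 y ∧ y ∈ (S : Set G)), ← this]
    · apply card_subtype_congr
      intro g
      constructor
      · intro hg
        exact (mem_normalizer_iff''.1 hg s0).1 hs0
      · intro hg
        rw [← inv_mem_iff]
        exact hnorm s0 hs0 hs1 g⁻¹ (by simpa using hg)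
    · intro g
      constructor
      · rintro ⟨h1, h3⟩
        exact ⟨hconj _ hs0 hs1 _ h1 h3, h1⟩
      · rintro ⟨h1, h3⟩
        refine ⟨h3, ?_⟩
        rintro rfl
        exact hs1 (isConj_one_left.1 h1)
  have hidx : N.index = q + 1 := by
    have := N.index_mul_card
    rw [hNcard, hG] at this
    exact Nat.eq_of_mul_eq_mul_right (Nat.mul_pos (by omega) (by omega)) this
  have hqeven : q % 2 = 0 := by
    have := Fintype.ofFinite F
    rw [hq, Nat.card_eq_fintype_card]
    exact FiniteField.even_card_of_char_two hF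
  have hinv : ∀ x ∈ N, x ^ 2 = 1 → x ∈ S := by
    intro x hx hx2
    have : Fact (Nat.Prime 2) := ⟨Nat.prime_two⟩
    have h1 := card_modEq_card_inter_Cen (p := 2) (k := 1) (fun g => g ∈ S ∧ g ≠ 1) x hx2
      (fun g hg => ⟨(mem_normalizer_iff.1 hx g).1 hg.1, fun h => hg.2 (by simpa using h)⟩)
    rw [hcard1] at h1
    unfold Nat.ModEq at h1
    obtain ⟨⟨s, ⟨hs, hs'⟩, hs''⟩⟩ : Nonempty {g : G // (g ∈ S ∧ g ≠ 1) ∧ g ∈ Cen x} :=
      (Nat.card_ne_zero.1 (by omega)).1
    rw [← hC s hs hs']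
    exact mem_Cen_comm.1 hs''
  have hsemi : ∀ (g : G), ∀ s ∈ S, g⁻¹ * s * g ∈ N → s = 1 ∨ g ∈ N := by
    intro g s hs h
    by_cases h1 : s = 1
    · exact Or.inl h1
    right
    have : g⁻¹ * s * g ∈ S := hinv _ h (by
      have := conj_pow (a := g⁻¹) (b := s) (i := 2)
      rw [inv_inv, h2 s hs] at this
      simpa using this)
    rw [← inv_mem_iff]
    exact hnorm s hs h1 g⁻¹ (by simpa using this)
  obtain ⟨g0, hg0⟩ : ∃ g0, g0 ∉ N := by
    by_contra h
    push Not at h
    rw [(eq_top_iff (a := N)).2 fun g _ => h g, index_top] at hidx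
    omega
  obtain ⟨w, hw⟩ : ∃ w, w = g0 * s0 * g0⁻¹ := ⟨_, rfl⟩
  have hw2 : w * w = 1 := by rw [← sq, hw, conj_pow, h2 s0 hs0]; simp
  have hwinv : w⁻¹ = w := inv_eq_of_mul_eq_one_right hw2
  have hwN : w ∉ N := by
    intro h
    rcases hsemi g0⁻¹ s0 hs0 (by rwa [inv_inv, ← hw]) with h1 | h1
    · exact hs1 h1
    · exact hg0 (inv_mem_iff.1 h1)
  let H : Subgroup G := N ⊓ N.comap (MulAut.conj w).toMonoidHom
  have memH : ∀ h, h ∈ H ↔ h ∈ N ∧ w * h * w⁻¹ ∈ N := fun h => Iff.rfl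
  let φ : H →* H := MonoidHom.mk' (fun h => ⟨w * h * w⁻¹, (memH _).2 ⟨((memH _).1 h.2).2, by
    have : w * (w * h * w⁻¹) * w⁻¹ = (w * w) * h * (w * w)⁻¹ := by group
    rw [this, hw2]; simpa using ((memH _).1 h.2).1⟩⟩) (by
      intro a b; ext; simp only [Subgroup.coe_mul]; group)
  have hφ : ∀ h : H, (φ h : G) = w * h * w⁻¹ := fun h => rfl
  have Hcomm : ∀ a ∈ H, ∀ b ∈ H, a * b = b * a := by
    intro a ha b hb
    have := MonoidHom.FixedPointFree.commute_all_of_involutive (φ := φ) (by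
      intro h hh
      have h1 : (h : G) ∈ Cen w := mem_Cen_comm.1 (mem_Cen'.2 (by rw [← hφ, hh]))
      have h3 := h1
      rw [hw, mem_Cen_conj, hC s0 hs0 hs1] at h3
      have h5 : (h : G) ^ 2 = 1 := by
        have := h2 _ h3
        have e := conj_pow (a := g0⁻¹) (b := (h : G)) (i := 2)
        rw [inv_inv, this] at e
        calc (h : G) ^ 2 = g0 * (g0⁻¹ * (h : G) ^ 2 * g0) * g0⁻¹ := by group
          _ = 1 := by rw [← e]; simp
      have h6 := hinv _ h.2.1 h5
      by_contra h7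
      have h8 : (h : G) ≠ 1 := fun e => h7 (Subtype.ext e)
      apply hwN
      apply le_normalizer
      rw [← hC _ h6 h8]
      exact mem_Cen_comm.1 h1) (by
      intro h
      ext
      rw [hφ, hφ]
      have : w * (w * h * w⁻¹) * w⁻¹ = (w * w) * h * (w * w)⁻¹ := by group
      rw [this, hw2]; simp) ⟨a, ha⟩ ⟨b, hb⟩
    exact congrArg Subtype.val this
  have hSH : ∀ n ∈ N, ∃ s ∈ S, s * n ∈ H := by
    intro n hn
    have ne1 : ∀ a ∈ N, ((a * w : G) : G ⧸ N) ≠ ((1 : G) : G ⧸ N) := by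
      intro a ha h
      rw [eq_comm, QuotientGroup.eq, inv_one, one_mul] at h
      exact hwN ((N.mul_mem_cancel_left ha).1 h)
    let f : S → {c : G ⧸ N // ¬ c = ((1 : G) : G ⧸ N)} := fun s =>
      ⟨((s * w : G) : G ⧸ N), ne1 _ (le_normalizer s.2)⟩
    have finj : Function.Injective f := by
      intro s t h
      have h1 : ((s * w : G) : G ⧸ N) = ((t * w : G) : G ⧸ N) := congrArg Subtype.val h
      rw [QuotientGroup.eq] at h1
      rcases hsemi w (s⁻¹ * t) (mul_mem (inv_mem s.2) t.2) (by simpa [mul_assoc] using h1)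
        with h3 | h3
      · exact Subtype.ext (inv_mul_eq_one.1 h3)
      · exact absurd h3 hwN
    have fbij : Function.Bijective f := by
      apply finj.bijective_of_nat_card_le
      have := card_subtype_add_not (fun c : G ⧸ N => c = ((1 : G) : G ⧸ N))
      rw [card_subtype_eq_one, ← index, hidx] at this
      omega
    obtain ⟨s, hs⟩ := fbij.2 ⟨((n * w : G) : G ⧸ N), ne1 n hn⟩
    have h1 : ((s * w : G) : G ⧸ N) = ((n * w : G) : G ⧸ N) := congrArg Subtype.val hs
    rw [QuotientGroup.eq] at h1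
    refine ⟨s⁻¹, inv_mem s.2, (memH _).2 ⟨mul_mem (le_normalizer (inv_mem s.2)) hn, ?_⟩⟩
    simpa [mul_assoc, hwinv] using h1
  let act : N → S →* S := fun n => (S.normalizerMonoidHom n : S →* S)
  have hact : ∀ (n : N) (s : S), (act n s : G) = n * s * n⁻¹ := fun n s => rfl
  have hactH : ∀ n : N, ∃ h ∈ H, ∀ a ∈ S, (n : G) * a * (n : G)⁻¹ = h * a * h⁻¹ := by
    intro n
    obtain ⟨s, hs, hh⟩ := hSH n n.2
    refine ⟨_, hh, fun a ha => ?_⟩
    have := hcomm s hs _ ((mem_normalizer_iff.1 n.2 a).1 ha)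
    calc (n : G) * a * (n : G)⁻¹ = s * (n * a * (n : G)⁻¹) * s⁻¹ := by rw [this]; group
      _ = _ := by group
  obtain ⟨u, hu1, hu2, hu3⟩ := exists_field_coords (S := S)
    (fun a b => Subtype.ext (hcomm a a.2 b b.2)) act (by
      intro n n' a
      obtain ⟨h, hh, e⟩ := hactH n
      obtain ⟨h', hh', e'⟩ := hactH n'
      ext
      have e1 := e _ (act n' a).2
      have e2 := e' _ (act n a).2
      rw [hact, hact n' (act n a), Subgroup.coe_inv, Subgroup.coe_inv, e1, e2, hact, hact,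
        Subgroup.coe_inv, Subgroup.coe_inv, e _ a.2, e' _ a.2]
      calc h * (h' * a * h'⁻¹) * h⁻¹ = (h * h') * a * (h * h')⁻¹ := by group
        _ = (h' * h) * a * (h' * h)⁻¹ := by rw [Hcomm h hh h' hh']
        _ = _ := by group) (by
      intro a b ha hb
      obtain ⟨g, hg⟩ := isConj_iff.1 (hconj a a.2 (fun e => ha (Subtype.ext e)) b b.2
        (fun e => hb (Subtype.ext e)))
      exact ⟨⟨g, hnorm a a.2 (fun e => ha (Subtype.ext e)) g (hg ▸ b.2)⟩, Subtype.ext hg⟩)
    (F := F) hS.symm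
  have u0 : u 0 = 1 := by
    have := hu2 0 0
    rw [add_zero] at this
    exact (mul_eq_left.1 this.symm)
  apply iso_psl2 (exists_sq_ne_one h4) N (fun x => (u x : G))
    (fun x y => by rw [hu2]; rfl) (fun x => le_normalizer (u x).2)
  · intro g x hx
    rcases hsemi g _ (u x).2 hx with h | h
    · left
      apply hu1.1
      rw [u0]
      exact Subtype.ext h
    · exact Or.inr h
  · exact hidx
  · intro g hg
    obtain ⟨c, hc⟩ := hu3 ⟨g, hg⟩
    exact ⟨c, fun x => congrArg Subtype.val (hc x)⟩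
  · exact Or.inr ⟨hF, hNcard⟩

/-- Recognition of `SL(2, 2^n)` from element counts: all involution centralisers are `2`-groups
and there are only `q ^ 2` elements of `2`-power order. -/
theorem iso_psl2_even_of_count {F : Type*} [Field F] [Finite F] {G : Type*} [Group G] [Finite G]
    [IsSimpleGroup G] {k : ℕ} (hk : 2 ≤ k) (hF : Nat.card F = 2 ^ k)
    (hG : Nat.card G = (2 ^ k + 1) * (2 ^ k * (2 ^ k - 1)))
    (hC : ∀ t : G, orderOf t = 2 → Nat.card (Cen t) ≤ 2 ^ k)
    (hcount : Nat.card {g : G // g ^ 2 ^ k = 1} ≤ 2 ^ k * 2 ^ k) :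
    Nonempty (G ≃* PSL(2, F)) := by
  have : Fact (Nat.Prime 2) := ⟨Nat.prime_two⟩
  have h4 : 4 ≤ 2 ^ k := by
    calc 4 = 2 ^ 2 := rfl
      _ ≤ 2 ^ k := Nat.pow_le_pow_right (by norm_num) hk
  have hqe : 2 ∣ 2 ^ k := dvd_pow_self 2 (by omega)
  have hchar : ringChar F = 2 := by
    have := Fintype.ofFinite F
    rw [FiniteField.even_card_iff_char_two, ← Nat.card_eq_fintype_card, hF]
    omega
  obtain ⟨q, hq⟩ : ∃ q, 2 ^ k = q + 1 := ⟨2 ^ k - 1, by omega⟩
  have hG' : Nat.card G = 2 ^ k * ((q + 2) * q) := by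
    rw [hG, hq, Nat.add_sub_cancel]; ring
  have hodd : ¬ 2 ∣ (q + 2) * q := by
    intro h
    rcases (Nat.Prime.dvd_mul Nat.prime_two).1 h with h | h <;> omega
  obtain ⟨S⟩ : Nonempty (Sylow 2 G) := inferInstance
  have hS := card_sylow_eq S hG' hodd
  obtain ⟨t, ht⟩ := exists_prime_orderOf_dvd_card' (G := G) 2 (hG' ▸ hqe.mul_right _)
  have hcl := card_class_mul t
  have hle : (q + 2) * q ≤ Nat.card {g : G // IsConj t g} := by
    have h1 := Nat.mul_le_mul_left (Nat.card {g : G // IsConj t g}) (hC t ht)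
    rw [hcl, hG', mul_comm] at h1
    exact Nat.le_of_mul_le_mul_right h1 (by positivity)
  have hall : ∀ g : G, g ^ 2 ^ k = 1 → (g = 1 ∨ IsConj t g) := by
    apply imp_of_card_le
    · rintro g (rfl | hg)
      · exact one_pow _
      · apply orderOf_dvd_iff_pow_eq_one.1
        rwa [orderOf_of_isConj hg, ht]
    · rw [card_subtype_or, card_subtype_eq_one]
      · refine hcount.trans ?_
        rw [hq]; nlinarith
      · rintro g rfl hg
        rw [isConj_one_left.1 hg, orderOf_one] at ht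
        omega
  have hSconj : ∀ s ∈ (S : Subgroup G), s ≠ 1 → IsConj t s := by
    intro s hs h1
    refine (hall s ?_).resolve_left h1
    have := pow_card_eq_one' (x := (⟨s, hs⟩ : (S : Subgroup G)))
    rw [hS] at this
    exact congrArg Subtype.val this
  have hS2 : ∀ s ∈ (S : Subgroup G), s ^ 2 = 1 := by
    intro s hs
    by_cases h1 : s = 1
    · simp [h1]
    · rw [← ht, ← orderOf_of_isConj (hSconj s hs h1), pow_orderOf_eq_one]
  have hinv : ∀ s ∈ (S : Subgroup G), s⁻¹ = s := fun s hs =>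
    inv_eq_of_mul_eq_one_right (by rw [← sq, hS2 s hs])
  apply iso_psl2_even (by omega) hchar (S : Subgroup G) (by rw [hS, hF]) hS2
  · intro s hs h1
    symm
    apply eq_of_le_of_card_ge
    · intro a ha
      rw [mem_Cen, ← hinv _ (mul_mem hs ha), _root_.mul_inv_rev, hinv s hs, hinv a ha]
    · rw [hS]
      exact hC s ((orderOf_of_isConj (hSconj s hs h1)).trans ht)
  · intro s hs h1 s' hs' h1'
    exact (hSconj s hs h1).symm.trans (hSconj s' hs' h1')
  · rw [hF, hG]

end H9
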