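import Cfsg.Prelude.Def_Classical
import Cfsg.Agent.H9.Tools

set_option autoImplicit false

namespace H9

open Subgroup Matrix

/-- The stabilizer of a vector in `Sp₄(F)`, in coordinates. -/
@[ext] structure HC (F : Type*) [Field F] where
  u : F
  v : F
  z : F
  a : F
  b : F
  c : F
  d : F
  det : a * d - b * c = 1

namespace HC

variable {F : Type*} [Field F]

instance : Mul (HC F) := ⟨fun g h =>
  ⟨g.u + g.a * h.u + g.b * h.v, g.v + g.c * h.u + g.d * h.v,
    g.z + h.z + g.u * (g.c * h.u + g.d * h.v) - g.v * (g.a * h.u + g.b * h.v),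
    g.a * h.a + g.b * h.c, g.a * h.b + g.b * h.d, g.c * h.a + g.d * h.c, g.c * h.b + g.d * h.d,
    by linear_combination (h.a * h.d - h.b * h.c) * g.det + h.det⟩⟩

instance : One (HC F) := ⟨⟨0, 0, 0, 1, 0, 0, 1, by ring⟩⟩

instance : Inv (HC F) := ⟨fun g =>
  ⟨-(g.d * g.u - g.b * g.v), -(-g.c * g.u + g.a * g.v), -g.z, g.d, -g.b, -g.c, g.a,
    by linear_combination g.det⟩⟩

@[simp] theorem mul_u (g h : HC F) : (g * h).u = g.u + g.a * h.u + g.b * h.v := rfl
@[simp] theorem mul_v (g h : HC F) : (g * h).v = g.v + g.c * h.u + g.d * h.v := rfl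
@[simp] theorem mul_z (g h : HC F) : (g * h).z =
    g.z + h.z + g.u * (g.c * h.u + g.d * h.v) - g.v * (g.a * h.u + g.b * h.v) := rfl
@[simp] theorem mul_a (g h : HC F) : (g * h).a = g.a * h.a + g.b * h.c := rfl
@[simp] theorem mul_b (g h : HC F) : (g * h).b = g.a * h.b + g.b * h.d := rfl
@[simp] theorem mul_c (g h : HC F) : (g * h).c = g.c * h.a + g.d * h.c := rfl
@[simp] theorem mul_d (g h : HC F) : (g * h).d = g.c * h.b + g.d * h.d := rfl
@[simp] theorem one_u : (1 : HC F).u = 0 := rfl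
@[simp] theorem one_v : (1 : HC F).v = 0 := rfl
@[simp] theorem one_z : (1 : HC F).z = 0 := rfl
@[simp] theorem one_a : (1 : HC F).a = 1 := rfl
@[simp] theorem one_b : (1 : HC F).b = 0 := rfl
@[simp] theorem one_c : (1 : HC F).c = 0 := rfl
@[simp] theorem one_d : (1 : HC F).d = 1 := rfl
@[simp] theorem inv_u (g : HC F) : g⁻¹.u = -(g.d * g.u - g.b * g.v) := rfl
@[simp] theorem inv_v (g : HC F) : g⁻¹.v = -(-g.c * g.u + g.a * g.v) := rfl
@[simp] theorem inv_z (g : HC F) : g⁻¹.z = -g.z := rfl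
@[simp] theorem inv_a (g : HC F) : g⁻¹.a = g.d := rfl
@[simp] theorem inv_b (g : HC F) : g⁻¹.b = -g.b := rfl
@[simp] theorem inv_c (g : HC F) : g⁻¹.c = -g.c := rfl
@[simp] theorem inv_d (g : HC F) : g⁻¹.d = g.a := rfl

instance : Group (HC F) := Group.ofLeftAxioms
  (fun g h k => by
    ext <;> simp only [mul_u, mul_v, mul_z, mul_a, mul_b, mul_c, mul_d]
    · ring
    · ring
    · linear_combination (h.u * (h.c * k.u + h.d * k.v) - h.v * (h.a * k.u + h.b * k.v)) * g.det
    all_goals ring)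
  (fun g => by ext <;> simp)
  (fun g => by
    ext <;> simp only [mul_u, mul_v, mul_z, mul_a, mul_b, mul_c, mul_d, inv_u, inv_v, inv_z,
      inv_a, inv_b, inv_c, inv_d, one_u, one_v, one_z, one_a, one_b, one_c, one_d]
    · ring
    · ring
    · ring
    · linear_combination g.det
    · ring
    · ring
    · linear_combination g.det)

instance [Finite F] : Finite (HC F) :=
  Finite.of_injective (fun g : HC F => (g.u, g.v, g.z, g.a, g.b, g.c, g.d)) (by
    intro g h e
    simp only [Prod.mk.injEq] at e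
    ext <;> tauto)

/-- the matrix of an element -/
def mat (g : HC F) : Matrix (Fin 2 ⊕ Fin 2) (Fin 2 ⊕ Fin 2) F :=
  fromBlocks !![1, g.c * g.u - g.a * g.v; 0, g.a] !![g.z, g.d * g.u - g.b * g.v; g.u, g.b]
    !![0, 0; 0, g.c] !![1, 0; g.v, g.d]

theorem mat_mem (g : HC F) : g.mat ∈ symplecticGroup (Fin 2) F := by
  rw [SymplecticGroup.mem_iff']
  ext i j
  rcases i with i | i <;> rcases j with j | j <;> fin_cases i <;> fin_cases j <;>
    simp [mat, Matrix.J, Matrix.mul_apply, Fintype.sum_sum_type, Fin.sum_univ_two, fromBlocks,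
      Matrix.one_apply] <;>
    first | ring1 | linear_combination g.det | linear_combination -g.det

/-- the embedding into `Sp₄(F)` -/
def toSp : HC F →* symplecticGroup (Fin 2) F := MonoidHom.mk' (fun g => ⟨g.mat, g.mat_mem⟩) (by
  intro g h
  apply Subtype.ext
  change (g * h).mat = g.mat * h.mat
  ext i j
  rcases i with i | i <;> rcases j with j | j <;> fin_cases i <;> fin_cases j <;>
    simp [mat, Matrix.mul_apply, Fintype.sum_sum_type, Fin.sum_univ_two, fromBlocks] <;>
    first | ring1 | linear_combination (h.c * h.u - h.a * h.v) * g.det |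
      linear_combination (h.d * h.u - h.b * h.v) * g.det)

theorem toSp_val (g : HC F) : (toSp g).1 = g.mat := rfl

theorem exists_toSp (g : symplecticGroup (Fin 2) F) (h1 : g.1 (.inl 0) (.inl 0) = 1)
    (h2 : g.1 (.inl 1) (.inl 0) = 0) (h3 : g.1 (.inr 0) (.inl 0) = 0)
    (h4 : g.1 (.inr 1) (.inl 0) = 0) : ∃ k, toSp k = g := by
  have h := SymplecticGroup.mem_iff'.1 g.2
  have e := fun i j => congrFun (congrFun h i) j
  have e1 := e (.inl 0) (.inl 1)
  have e2 := e (.inl 0) (.inr 0)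
  have e3 := e (.inl 0) (.inr 1)
  have e4 := e (.inl 1) (.inr 0)
  have e5 := e (.inl 1) (.inr 1)
  have e6 := e (.inr 0) (.inr 1)
  simp [Matrix.J, Matrix.mul_apply, Fintype.sum_sum_type, Fin.sum_univ_two, fromBlocks,
      Matrix.one_apply, h1, h2, h3, h4] at e1 e2 e3 e4 e5 e6
  simp only [e1, e2, e3] at e4 e5 e6
  refine ⟨⟨g.1 (.inl 1) (.inr 0), g.1 (.inr 1) (.inr 0), g.1 (.inl 0) (.inr 0),
    g.1 (.inl 1) (.inl 1), g.1 (.inl 1) (.inr 1), g.1 (.inr 1) (.inl 1), g.1 (.inr 1) (.inr 1),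
    by linear_combination -e5⟩, Subtype.ext ?_⟩
  rw [toSp_val]
  ext i j
  rcases i with i | i <;> rcases j with j | j <;> fin_cases i <;> fin_cases j <;>
    simp [mat, fromBlocks, h1, h2, h3, h4, e1, e2, e3] <;>
    first | linear_combination e4 | linear_combination -e6

end HC

end H9
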