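import Cfsg.Agent.H9.Sp4a

set_option autoImplicit false

namespace H9

open Subgroup Matrix

variable {F : Type*} [Field F]

abbrev Sp4 (F : Type*) [Field F] := symplecticGroup (Fin 2) F
abbrev I4 := Fin 2 ⊕ Fin 2

instance [Finite F] : Finite (Sp4 F) := Subtype.finite

/-- a `p`-group of matrices fixes a nonzero vector -/
theorem exists_fixed_vec {G n : Type*} [Group G] [Fintype n] [DecidableEq n] [Nonempty n]
    [Finite F] {p : ℕ} [Fact p.Prime] (hF : p ∣ Nat.card F) (hG : IsPGroup p G)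
    (f : G →* Matrix n n F) : ∃ v : n → F, v ≠ 0 ∧ ∀ g, f g *ᵥ v = v := by
  letI : MulAction G (n → F) :=
    { smul := fun g v => f g *ᵥ v
      one_smul := fun v => by change f 1 *ᵥ v = v; simp
      mul_smul := fun g h v => by
        change f (g * h) *ᵥ v = f g *ᵥ (f h *ᵥ v)
        simp }
  obtain ⟨b, hb, hne⟩ := hG.exists_fixed_point_of_prime_dvd_card_of_fixed_point (n → F)
    (by
      rw [Nat.card_fun]
      exact dvd_pow hF Nat.card_pos.ne') (a := 0) (fun g => by change f g *ᵥ 0 = 0; simp)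
  exact ⟨b, hne.symm, hb⟩

/-- transvections -/
def tv (w : I4 → F) (c : F) : Sp4 F :=
  ⟨1 + c • vecMulVec w (w ᵥ* Matrix.J (Fin 2) F), by
    rw [SymplecticGroup.mem_iff]
    ext i j
    rcases i with i | i <;> rcases j with j | j <;> fin_cases i <;> fin_cases j <;>
      simp [Matrix.J, Matrix.mul_apply, Fintype.sum_sum_type, Fin.sum_univ_two, fromBlocks,
        Matrix.one_apply, vecMulVec_apply, vecMul, dotProduct] <;> ring⟩

theorem tv_mulVec (w v : I4 → F) (c : F) : (tv w c).1 *ᵥ v = v + (c * (w (.inr 0) * v (.inl 0) +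
    w (.inr 1) * v (.inl 1) - w (.inl 0) * v (.inr 0) - w (.inl 1) * v (.inr 1))) • w := by
  ext i
  rcases i with i | i <;> fin_cases i <;>
    simp [tv, Matrix.J, Fintype.sum_sum_type, Fin.sum_univ_two, fromBlocks,
        Matrix.one_apply, vecMulVec_apply, vecMul, mulVec, dotProduct] <;> ring

theorem exists_sp_smul (v : I4 → F) (hv : v ≠ 0) :
    ∃ g : Sp4 F, g.1 *ᵥ v = Pi.single (.inl 0) 1 := by
  have key : ∀ v : I4 → F, v (.inr 0) ≠ 0 → ∃ g : Sp4 F, g.1 *ᵥ v = Pi.single (.inl 0) 1 := by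
    intro v h
    refine ⟨tv (Pi.single (.inl 0) 1 - v) (-(v (.inr 0))⁻¹), ?_⟩
    rw [tv_mulVec]
    have : -(v (.inr 0))⁻¹ * ((Pi.single (.inl 0) 1 - v : I4 → F) (.inr 0) * v (.inl 0) +
      (Pi.single (.inl 0) 1 - v : I4 → F) (.inr 1) * v (.inl 1) -
      (Pi.single (.inl 0) 1 - v : I4 → F) (.inl 0) * v (.inr 0) -
      (Pi.single (.inl 0) 1 - v : I4 → F) (.inl 1) * v (.inr 1)) = 1 := by
      simp
      field_simp
      ring
    rw [this]; simp
  by_cases h : v (.inr 0) = 0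
  swap
  · exact key v h
  have key2 : ∀ w : I4 → F, w (.inr 0) = 1 → w (.inl 0) = 0 →
      v (.inl 0) + w (.inr 1) * v (.inl 1) - w (.inl 1) * v (.inr 1) ≠ 0 →
      ∃ g : Sp4 F, g.1 *ᵥ v = Pi.single (.inl 0) 1 := by
    intro w h1 h2 h3
    obtain ⟨g, hg⟩ := key ((tv w 1).1 *ᵥ v) (by
      rw [tv_mulVec]
      simpa [h, h1, h2] using h3)
    exact ⟨g * tv w 1, by rw [← hg]; simp⟩
  by_cases h1 : v (.inl 0) = 0
  swap
  · exact key2 (Pi.single (.inr 0) 1) (by simp) (by simp) (by simpa using h1)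
  by_cases h2 : v (.inl 1) = 0
  swap
  · exact key2 (Pi.single (.inr 0) 1 + Pi.single (.inr 1) 1) (by simp) (by simp)
      (by simpa [h1] using h2)
  by_cases h3 : v (.inr 1) = 0
  swap
  · exact key2 (Pi.single (.inr 0) 1 + Pi.single (.inl 1) 1) (by simp) (by simp)
      (by simpa [h1] using h3)
  exfalso
  apply hv
  ext i
  rcases i with i | i <;> fin_cases i <;> simpa

theorem center_sp {g : Sp4 F} (hg : g ∈ center (Sp4 F)) : g.1 = 1 ∨ g.1 = -1 := by
  rw [mem_center_iff] at hg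
  have key : ∀ w : I4 → F, ∀ i j, ((tv w 1).1 * g.1) i j = (g.1 * (tv w 1).1) i j :=
    fun w i j => congrFun (congrFun (congrArg Subtype.val (hg (tv w 1))) i) j
  have a1 := key (Pi.single (.inl 0) 1)
  have a2 := key (Pi.single (.inl 1) 1)
  have a3 := key (Pi.single (.inr 0) 1)
  have a4 := key (Pi.single (.inr 1) 1)
  have a5 := key (Pi.single (.inl 0) 1 + Pi.single (.inl 1) 1) (.inl 0) (.inr 1)
  have b1 := a1 (.inl 1) (.inr 0)
  have b2 := a1 (.inr 0) (.inr 0)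
  have b3 := a1 (.inr 1) (.inr 0)
  have b4 := a1 (.inl 0) (.inr 0)
  have b5 := a2 (.inl 0) (.inr 1)
  have b6 := a2 (.inr 0) (.inr 1)
  have b7 := a2 (.inr 1) (.inr 1)
  have b8 := a2 (.inl 1) (.inr 1)
  have b9 := a3 (.inl 0) (.inl 0)
  have b10 := a3 (.inl 1) (.inl 0)
  have b11 := a3 (.inr 1) (.inl 0)
  have b12 := a4 (.inl 0) (.inl 1)
  have b13 := a4 (.inl 1) (.inl 1)
  have b14 := a4 (.inr 0) (.inl 1)
  have c := congrFun (congrFun (SymplecticGroup.mem_iff'.1 g.2) (.inl 0)) (.inr 0)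
  simp [tv, Matrix.J, Matrix.mul_apply, Fintype.sum_sum_type, Fin.sum_univ_two, fromBlocks,
    Matrix.one_apply, vecMulVec_apply, vecMul, dotProduct] at a5 b1 b2 b3 b4 b5 b6 b7 b8 b9 b10 b11 b12 b13 b14 c
  simp [b1, b2, b3, b5, b6, b7, b9, b10, b11, b12, b13, b14] at a5 b4 b8 c
  have e1 : g.1 (.inr 0) (.inr 0) = g.1 (.inl 0) (.inl 0) := b4
  have e2 : g.1 (.inr 1) (.inr 1) = g.1 (.inl 0) (.inl 0) := a5
  have e3 : g.1 (.inl 1) (.inl 1) = g.1 (.inl 0) (.inl 0) := b8.symm.trans a5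
  rw [e1, mul_self_eq_one_iff] at c
  rcases c with c | c
  · left
    ext i j
    rcases i with i | i <;> rcases j with j | j <;> fin_cases i <;> fin_cases j <;>
      simp [b1, b2, b3, b5, b6, b7, b9, b10, b11, b12, b13, b14, e1, e2, e3, c]
  · right
    ext i j
    rcases i with i | i <;> rcases j with j | j <;> fin_cases i <;> fin_cases j <;>
      simp [b1, b2, b3, b5, b6, b7, b9, b10, b11, b12, b13, b14, e1, e2, e3, c]

namespace HC

/-- the unipotent subgroup -/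
def U (F : Type*) [Field F] : Subgroup (HC F) where
  carrier := {g | g.c = 0 ∧ g.a = 1 ∧ g.d = 1}
  one_mem' := by simp
  mul_mem' := fun {g h} hg hh => by simp [hg.1, hg.2.1, hg.2.2, hh.1, hh.2.1, hh.2.2]
  inv_mem' := fun {g} hg => by simp [hg.1, hg.2.1, hg.2.2]

theorem mem_U {g : HC F} : g ∈ U F ↔ g.c = 0 ∧ g.a = 1 ∧ g.d = 1 := Iff.rfl

theorem card_U : Nat.card (U F) = Nat.card F ^ 4 := by
  have : U F ≃ F × F × F × F :=
    { toFun := fun g => (g.1.u, g.1.v, g.1.z, g.1.b)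
      invFun := fun x => ⟨⟨x.1, x.2.1, x.2.2.1, 1, x.2.2.2, 0, 1, by ring⟩, rfl, rfl, rfl⟩
      left_inv := fun g => by
        obtain ⟨g, h1, h2, h3⟩ := g
        ext <;> simp [h1, h2, h3]
      right_inv := fun x => rfl }
  rw [Nat.card_congr this]
  simp only [Nat.card_prod]
  ring

theorem isPGroup_U {p n : ℕ} (hF : Nat.card F = p ^ n) : IsPGroup p (U F) :=
  IsPGroup.of_card (n := n * 4) (by rw [card_U, hF, pow_mul])

theorem exists_conj_le_U [Finite F] {p : ℕ} [Fact p.Prime] (hF : p ∣ Nat.card F)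
    {R : Subgroup (HC F)} (hR : IsPGroup p R) : ∃ k : HC F, ∀ r ∈ R, k⁻¹ * r * k ∈ U F := by
  let f : HC F →* Matrix (Fin 2) (Fin 2) F :=
    { toFun := fun g => !![g.a, g.b; g.c, g.d]
      map_one' := by ext i j; fin_cases i <;> fin_cases j <;> simp
      map_mul' := fun g h => by
        ext i j; fin_cases i <;> fin_cases j <;> simp [Matrix.mul_apply, Fin.sum_univ_two] }
  obtain ⟨w, hw, hfix⟩ := exists_fixed_vec hF hR (f.comp R.subtype)
  obtain ⟨b, d, hbd⟩ : ∃ b d, w 0 * d - b * w 1 = 1 := by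
    by_cases h0 : w 0 = 0
    · have h1 : w 1 ≠ 0 := fun h1 => hw (by ext i; fin_cases i <;> simpa)
      exact ⟨-(w 1)⁻¹, 0, by simp [h1]⟩
    · exact ⟨0, (w 0)⁻¹, by simp [h0]⟩
  refine ⟨⟨0, 0, 0, w 0, b, w 1, d, hbd⟩, fun r hr => ?_⟩
  have h := hfix ⟨r, hr⟩
  have h0 := congrFun h 0
  have h1 := congrFun h 1
  simp [f, mulVec, dotProduct, Fin.sum_univ_two] at h0 h1
  have hd := r.det
  have e1 : (-w 1 * r.a + w 0 * r.c) * w 0 + (-w 1 * r.b + w 0 * r.d) * w 1 = 0 := by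
    linear_combination (-w 1) * h0 + w 0 * h1
  have e2 : (d * r.a + -b * r.c) * w 0 + (d * r.b + -b * r.d) * w 1 = 1 := by
    linear_combination d * h0 - b * h1 + hbd
  have e3 : ∀ y : HC F, y.c = 0 → y.a = 1 → y ∈ U F := fun y y1 y2 => ⟨y1, y2, by
    have := y.det
    rwa [y1, y2, mul_zero, sub_zero, one_mul] at this⟩
  exact e3 _ e1 e2

/-- central elements -/
def zz (z : F) : HC F := ⟨0, 0, z, 1, 0, 0, 1, by ring⟩

theorem zz_comm (z : F) (g : HC F) : g * zz z = zz z * g := by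
  ext <;> simp [zz]; ring

theorem eq_zz (h2 : (2 : F) ≠ 0) {k : HC F} (hk : k ∈ U F) (h : ∀ y ∈ U F, y * k = k * y) :
    k = zz k.z := by
  obtain ⟨h1, h2', h3⟩ := hk
  have a1 := h ⟨0, 1, 0, 1, 0, 0, 1, by ring⟩ ⟨rfl, rfl, rfl⟩
  have a2 := h ⟨0, 0, 0, 1, 1, 0, 1, by ring⟩ ⟨rfl, rfl, rfl⟩
  have b1 := congrArg HC.u a1
  have b2 := congrArg HC.z a1
  have b3 := congrArg HC.u a2
  simp [h1, h2', h3] at b1 b2 b3
  have b4 : k.u = 0 := by
    apply mul_left_cancel₀ h2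
    linear_combination -b2 + k.b * b3
  ext <;> simp [zz, h1, h2', h3, b1, b3, b4]

/-- the map to `PSp₄(F)` -/
def toP : HC F →* Cfsg.PSp 2 F := (QuotientGroup.mk' _).comp toSp

theorem toP_injective (h2 : (2 : F) ≠ 0) : Function.Injective (toP : HC F → _) := by
  rw [injective_iff_map_eq_one]
  intro k hk
  have h := center_sp ((QuotientGroup.eq_one_iff _).1 hk)
  rw [toSp_val] at h
  rcases h with h | h
  · have e := fun i j => congrFun (congrFun h i) j
    ext
    · simpa [mat] using e (.inl 1) (.inr 0)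
    · simpa [mat] using e (.inr 1) (.inr 0)
    · simpa [mat] using e (.inl 0) (.inr 0)
    · simpa [mat] using e (.inl 1) (.inl 1)
    · simpa [mat] using e (.inl 1) (.inr 1)
    · simpa [mat] using e (.inr 1) (.inl 1)
    · simpa [mat] using e (.inr 1) (.inr 1)
  · have := congrFun (congrFun h (.inl 0)) (.inl 0)
    simp [mat] at this
    exact absurd (by linear_combination this) h2

theorem centralizer_toP (h2 : (2 : F) ≠ 0) {z : F} (hz : z ≠ 0) :
    centralizer {toP (zz z)} = toP.range := by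
  apply le_antisymm
  · intro g hg
    obtain ⟨g, rfl⟩ := QuotientGroup.mk_surjective g
    have h1 : toP (zz z) * (g : Cfsg.PSp 2 F) = g * toP (zz z) := hg _ rfl
    have h3 : (toSp (zz z) * g)⁻¹ * (g * toSp (zz z)) ∈ center (Sp4 F) :=
      QuotientGroup.eq.1 h1
    have h4 : (g * toSp (zz z)).1 = (toSp (zz z) * g).1 *
        ((toSp (zz z) * g)⁻¹ * (g * toSp (zz z))).1 := by
      rw [← Submonoid.coe_mul, mul_inv_cancel_left]
    have c := congrFun (congrFun (SymplecticGroup.mem_iff'.1 g.2) (.inl 0)) (.inr 0)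
    rcases center_sp h3 with h5 | h5 <;> rw [h5] at h4
    · have e := fun i j => congrFun (congrFun h4 i) j
      have e1 := e (.inl 0) (.inr 0)
      have e2 := e (.inl 1) (.inr 0)
      have e3 := e (.inr 0) (.inr 0)
      have e4 := e (.inr 1) (.inr 0)
      simp [toSp_val, mat, zz, Matrix.mul_apply, Fintype.sum_sum_type, Fin.sum_univ_two,
        fromBlocks, hz] at e1 e2 e3 e4
      simp [Matrix.J, Matrix.mul_apply, Fintype.sum_sum_type, Fin.sum_univ_two, fromBlocks,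
        Matrix.one_apply, e2, e3, e4] at c
      have e5 : g.1 (.inr 0) (.inr 0) = g.1 (.inl 0) (.inl 0) := by
        apply mul_left_cancel₀ hz
        linear_combination -e1
      rw [e5, mul_self_eq_one_iff] at c
      rcases c with c | c
      · obtain ⟨k, hk⟩ := exists_toSp g c e2 e3 e4
        exact ⟨k, by rw [← hk]; rfl⟩
      · obtain ⟨k, hk⟩ := exists_toSp ⟨-g.1, SymplecticGroup.neg_mem g.2⟩ (by simp [c])
          (by simp [e2]) (by simp [e3]) (by simp [e4])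
        refine ⟨k, ?_⟩
        change ((toSp k : Sp4 F) : Cfsg.PSp 2 F) = g
        rw [hk, QuotientGroup.eq, mem_center_iff]
        intro y
        have e6 : ((⟨-g.1, SymplecticGroup.neg_mem g.2⟩ : Sp4 F)⁻¹ * g).1 = -1 := by
          have : (⟨-g.1, SymplecticGroup.neg_mem g.2⟩ : Sp4 F)⁻¹ * g =
              ⟨-1, SymplecticGroup.neg_mem (one_mem _)⟩ := by
            rw [inv_mul_eq_iff_eq_mul]
            exact Subtype.ext (by simp)
          rw [this]
        apply Subtype.ext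
        rw [Submonoid.coe_mul, Submonoid.coe_mul _ _ y, e6]
        simp
    · exfalso
      have e := fun i j => congrFun (congrFun h4 i) j
      have e1 := e (.inl 0) (.inl 0)
      have e2 := e (.inl 1) (.inl 0)
      have e3 := e (.inr 0) (.inl 0)
      have e4 := e (.inr 1) (.inl 0)
      simp [toSp_val, mat, zz, Matrix.mul_apply, Fintype.sum_sum_type, Fin.sum_univ_two,
        fromBlocks, hz] at e1 e2 e3 e4
      have f2 : g.1 (.inl 1) (.inl 0) = 0 := by
        apply mul_left_cancel₀ h2; linear_combination e2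
      have f3 : g.1 (.inr 0) (.inl 0) = 0 := by
        apply mul_left_cancel₀ h2; linear_combination e3
      have f4 : g.1 (.inr 1) (.inl 0) = 0 := by
        apply mul_left_cancel₀ h2; linear_combination e4
      have f1 : g.1 (.inl 0) (.inl 0) = 0 := by
        apply mul_left_cancel₀ h2; rw [f3] at e1; linear_combination e1
      simp [Matrix.J, Matrix.mul_apply, Fintype.sum_sum_type, Fin.sum_univ_two, fromBlocks,
        Matrix.one_apply, f1, f2, f3, f4] at c
  · rintro _ ⟨k, rfl⟩ _ rfl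
    rw [← map_mul, ← map_mul, zz_comm]

end HC

/-- The centralizer of a `p`-central element of `PSp₄(F)`. -/
theorem exists_hc [Finite F] {p n : ℕ} [Fact p.Prime] (hF : Nat.card F = p ^ n) (hn : 1 ≤ n)
    (h2 : (2 : F) ≠ 0) {x : Cfsg.PSp 2 F} (hx : x ≠ 1) (Px : Sylow p (Cfsg.PSp 2 F))
    (hxP : x ∈ (Px : Subgroup (Cfsg.PSp 2 F)))
    (hxc : ∀ y ∈ (Px : Subgroup (Cfsg.PSp 2 F)), y * x = x * y) :
    Nonempty (HC F ≃* centralizer ({x} : Set (Cfsg.PSp 2 F))) := by
  have hp : p ∣ Nat.card F := hF ▸ dvd_pow_self p (by omega)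
  obtain ⟨Q, hQ⟩ := Sylow.mapSurjective_surjective
    (QuotientGroup.mk'_surjective (center (Sp4 F))) p Px
  have hQ' : (Px : Subgroup (Cfsg.PSp 2 F)) = (Q : Subgroup (Sp4 F)).map (QuotientGroup.mk' _) := by
    rw [← hQ, Sylow.coe_mapSurjective]
  obtain ⟨v, hv, hfix⟩ := exists_fixed_vec hp Q.isPGroup'
    ((symplecticGroup (Fin 2) F).subtype.comp (Q : Subgroup (Sp4 F)).subtype)
  obtain ⟨g, hg⟩ := exists_sp_smul v hv
  have h1 : ∀ q ∈ (Q : Subgroup (Sp4 F)), ∃ k, HC.toSp k = g * q * g⁻¹ := by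
    intro q hq
    have e : (g * q * g⁻¹).1 *ᵥ Pi.single (.inl 0) 1 = Pi.single (.inl 0) 1 := by
      conv_lhs => rw [← hg]
      rw [mulVec_mulVec, ← Submonoid.coe_mul, inv_mul_cancel_right, Submonoid.coe_mul,
        ← mulVec_mulVec]
      exact (congrArg _ (hfix ⟨q, hq⟩)).trans hg
    rw [mulVec_single_one] at e
    exact HC.exists_toSp _ (by simpa using congrFun e (.inl 0)) (by simpa using congrFun e (.inl 1))
      (by simpa using congrFun e (.inr 0)) (by simpa using congrFun e (.inr 1))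
  let φ : HC F →* Cfsg.PSp 2 F := (MulAut.conj ((g : Cfsg.PSp 2 F))⁻¹).toMonoidHom.comp HC.toP
  have hφ : Function.Injective φ := (MulAut.conj _).injective.comp (HC.toP_injective h2)
  have h3 : (Px : Subgroup (Cfsg.PSp 2 F)) ≤ φ.range := by
    rw [hQ']
    rintro _ ⟨q, hq, rfl⟩
    obtain ⟨k, hk⟩ := h1 q hq
    refine ⟨k, ?_⟩
    change (g : Cfsg.PSp 2 F)⁻¹ * ((HC.toSp k : Sp4 F) : Cfsg.PSp 2 F) * (g : Cfsg.PSp 2 F)⁻¹⁻¹ = q
    rw [hk]
    simp [mul_assoc]
  obtain ⟨k, hk⟩ := HC.exists_conj_le_U hp (Px.isPGroup'.comap_of_injective φ hφ)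
  let ψ : HC F →* Cfsg.PSp 2 F := φ.comp (MulAut.conj k).toMonoidHom
  have hψ : Function.Injective ψ := hφ.comp (MulAut.conj _).injective
  have h4 : (Px : Subgroup (Cfsg.PSp 2 F)) ≤ (HC.U F).map ψ := by
    intro y hy
    obtain ⟨r, rfl⟩ := h3 hy
    exact ⟨_, hk r hy, by simp [ψ, mul_assoc]⟩
  have h5 := Px.is_maximal' ((HC.isPGroup_U hF).map ψ) h4
  obtain ⟨y, hy, rfl⟩ := h4 hxP
  have h6 := HC.eq_zz h2 hy (fun w hw => hψ (by
    rw [map_mul, map_mul]
    exact hxc _ (h5 ▸ mem_map_of_mem ψ hw)))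
  have hz : y.z ≠ 0 := fun h => hx (by
    rw [h6, h]
    exact (congrArg ψ (by ext <;> simp [HC.zz])).trans (map_one ψ))
  have h7 : centralizer {ψ y} = ψ.range := by
    have e1 : ψ y = (g : Cfsg.PSp 2 F)⁻¹ * HC.toP (HC.zz y.z) * (g : Cfsg.PSp 2 F)⁻¹⁻¹ := by
      conv_lhs => rw [h6]
      change φ (k * HC.zz y.z * k⁻¹) = _
      rw [HC.zz_comm, mul_inv_cancel_right]
      rfl
    ext w
    rw [e1]
    change w ∈ Cen _ ↔ _
    rw [mem_Cen_conj, inv_inv]
    change _ ∈ centralizer {HC.toP (HC.zz y.z)} ↔ _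
    rw [HC.centralizer_toP h2 hz]
    constructor
    · rintro ⟨r, hr⟩
      refine ⟨k⁻¹ * r * k, ?_⟩
      change (g : Cfsg.PSp 2 F)⁻¹ * HC.toP (k * (k⁻¹ * r * k) * k⁻¹) * (g : Cfsg.PSp 2 F)⁻¹⁻¹ = w
      rw [show k * (k⁻¹ * r * k) * k⁻¹ = r by group, hr]
      group
    · rintro ⟨r, rfl⟩
      refine ⟨k * r * k⁻¹, ?_⟩
      change _ = (g : Cfsg.PSp 2 F) * ((g : Cfsg.PSp 2 F)⁻¹ * HC.toP (k * r * k⁻¹) *
        (g : Cfsg.PSp 2 F)⁻¹⁻¹) * (g : Cfsg.PSp 2 F)⁻¹
      group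
  rw [h7]
  exact ⟨MonoidHom.ofInjective hψ⟩

end H9
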