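import Mathlib.FieldTheory.Finite.Basic
import Mathlib.NumberTheory.LegendreSymbol.QuadraticChar.Basic
import Mathlib.Tactic.LinearCombination
import Mathlib.Tactic.FieldSimp

set_option autoImplicit false

namespace H9

open Equiv

abbrev V3 (F : Type*) := F × F × F

variable {F : Type*} [Field F]

theorem pai {α : Type*} (f : Perm α) (x : α) : f (f⁻¹ x) = x := f.apply_symm_apply x
theorem pia {α : Type*} (f : Perm α) (x : α) : f⁻¹ (f x) = x := f.symm_apply_apply x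

/-- the action of a matrix on symmetric matrices -/
def sym2 (a b c d : F) (v : V3 F) : V3 F :=
  (a ^ 2 * v.1 + 2 * a * b * v.2.1 + b ^ 2 * v.2.2,
    a * c * v.1 + (a * d + b * c) * v.2.1 + b * d * v.2.2,
    c ^ 2 * v.1 + 2 * c * d * v.2.1 + d ^ 2 * v.2.2)

theorem sym2_sym2 (a b c d a' b' c' d' : F) (v : V3 F) :
    sym2 a b c d (sym2 a' b' c' d' v) =
      sym2 (a * a' + b * c') (a * b' + b * d') (c * a' + d * c') (c * b' + d * d') v := by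
  ext <;> simp only [sym2] <;> ring

theorem sym2_one (v : V3 F) : sym2 1 0 0 1 v = v := by
  ext <;> simp [sym2]

/-- the lower triangular elements -/
def bo (τ s : F) (v : V3 F) : V3 F :=
  (τ ^ 2 * v.1, τ * s * v.1 + τ * v.2.1, s ^ 2 * v.1 + 2 * s * v.2.1 + v.2.2)

theorem bo_eq (τ s : F) (v : V3 F) : bo τ s v = sym2 τ 0 s 1 v := by
  ext <;> simp [bo, sym2]

structure GH (Γ : Subgroup (Perm (V3 F))) : Prop where
  two : (2 : F) ≠ 0
  sq : ∀ a : F, a ≠ 0 → (∃ r, a = r ^ 2) ∨ ∃ r, a = -r ^ 2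
  nsq : ∀ r : F, r ^ 2 ≠ -1
  add : ∀ γ ∈ Γ, ∀ a b, γ (a + b) = γ a + γ b
  exB : ∀ τ s : F, τ ≠ 0 → ∃ γ ∈ Γ, ∀ v, γ v = bo τ s v
  fix : ∀ γ ∈ Γ, ∀ z : F, z ≠ 0 → γ (0, 0, z) = (0, 0, z) →
    ∃ τ s : F, τ ≠ 0 ∧ ∀ v, γ v = bo τ s v
  nt : ∃ z₁ z₂ : F, z₁ ≠ 0 ∧ z₂ ≠ 0 ∧ ∀ γ ∈ Γ, γ (0, 0, z₁) ≠ (0, 0, z₂)

/-- `γ` preserves the third axis -/
def NZ (γ : Perm (V3 F)) : Prop := ∀ z : F, ∃ z', γ (0, 0, z) = (0, 0, z')

namespace GH

variable {Γ : Subgroup (Perm (V3 F))} (h : GH Γ) {γ : Perm (V3 F)}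
include h

theorem zero (hγ : γ ∈ Γ) : γ 0 = 0 := by
  have := h.add γ hγ 0 0
  rw [add_zero] at this
  exact left_eq_add.1 this

theorem neg (hγ : γ ∈ Γ) (v : V3 F) : γ (-v) = -γ v := by
  rw [eq_neg_iff_add_eq_zero, ← h.add γ hγ, neg_add_cancel, h.zero hγ]

theorem eq_zero (hγ : γ ∈ Γ) {v : V3 F} (hv : γ v = 0) : v = 0 :=
  γ.injective (hv.trans (h.zero hγ).symm)

theorem split (hγ : γ ∈ Γ) (x b z : F) :
    γ (x, b, z) = γ (x, 0, 0) + γ (0, b, 0) + γ (0, 0, z) := by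
  rw [← h.add γ hγ, ← h.add γ hγ]
  simp

theorem eq_of_neg {a : F} (e : a = -a) : a = 0 := by
  apply mul_left_cancel₀ h.two
  linear_combination e

theorem fixZ (hγ : γ ∈ Γ) {z : F} (hz : z ≠ 0) (e : γ (0, 0, z) = (0, 0, z)) (w : F) :
    γ (0, 0, w) = (0, 0, w) := by
  obtain ⟨τ, s, -, hb⟩ := h.fix γ hγ z hz e
  simp [hb, bo]

theorem ti (hγ : γ ∈ Γ) {z z' : F} (hz : z ≠ 0) (e : γ (0, 0, z) = (0, 0, z')) : NZ γ := by
  intro w
  obtain ⟨y, hy, hb⟩ := h.exB 1 1 one_ne_zero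
  have h1 := h.fixZ (mul_mem (mul_mem (inv_mem hγ) hy) hγ) hz (by
    simp only [Perm.mul_apply, e, hb]
    rw [Perm.inv_eq_iff_eq, e]
    simp [bo]) w
  simp only [Perm.mul_apply, hb] at h1
  rw [Perm.inv_eq_iff_eq] at h1
  generalize γ (0, 0, w) = u at h1
  obtain ⟨x, b, c⟩ := u
  simp only [bo, Prod.mk.injEq] at h1
  have hx : x = 0 := by linear_combination h1.2.1
  have hb : b = 0 := by
    apply mul_left_cancel₀ h.two
    linear_combination h1.2.2 - hx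
  exact ⟨c, by rw [hx, hb]⟩

theorem noB (hγ : γ ∈ Γ) {z b c : F} (hz : z ≠ 0) (e : γ (0, 0, z) = (0, b, c)) : b = 0 := by
  by_contra hb
  have h2 := h.two
  obtain ⟨y, hy, hyb⟩ := h.exB 1 (-c / (2 * b)) one_ne_zero
  obtain ⟨t, ht, htb⟩ := h.exB (-1) 0 (by simp)
  have hγ' := mul_mem hy hγ
  have e' : (y * γ) (0, 0, z) = (0, b, 0) := by
    simp only [Perm.mul_apply, e, hyb, bo]
    ext <;> simp
    field_simp
    ring
  generalize y * γ = δ at hγ' e'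
  have ht1 := mul_mem (mul_mem (inv_mem hγ') ht) hγ'
  have e1 : (δ⁻¹ * t * δ) (0, 0, z) = (0, 0, -z) := by
    simp only [Perm.mul_apply, e', htb]
    rw [Perm.inv_eq_iff_eq, show ((0, 0, -z) : V3 F) = -(0, 0, z) by simp, h.neg hγ', e']
    simp [bo]
  have e2 : ∀ v, (δ⁻¹ * t * δ) ((δ⁻¹ * t * δ) v) = v := by
    intro v
    simp [htb, bo]
  have e3 : ∀ w, (δ⁻¹ * t * δ) (0, 0, w) = (0, 0, -w) := by
    intro w
    obtain ⟨w', hw⟩ := h.ti ht1 hz e1 w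
    by_cases h0 : w + w' = 0
    · rw [hw, eq_neg_of_add_eq_zero_right h0]
    exfalso
    have e4 := h.fixZ ht1 h0 (by
      rw [show ((0, 0, w + w') : V3 F) = (0, 0, w) + (0, 0, w') by simp, h.add _ ht1, hw,
        ← hw, e2, add_comm]) z
    rw [e1] at e4
    simp only [Prod.mk.injEq, true_and] at e4
    exact hz (h.eq_of_neg e4.symm)
  have e5 : ∀ w, w ≠ 0 → ∃ b', b' ≠ 0 ∧ δ (0, 0, w) = (0, b', 0) := by
    intro w hw
    have e6 := e3 w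
    simp only [Perm.mul_apply, htb] at e6
    rw [Perm.inv_eq_iff_eq, show ((0, 0, -w) : V3 F) = -(0, 0, w) by simp, h.neg hγ'] at e6
    have e7 := fun e => hw (congrArg (·.2.2) (h.eq_zero hγ' (v := (0, 0, w)) e))
    generalize δ (0, 0, w) = u at e6 e7
    obtain ⟨x, b', c'⟩ := u
    simp [bo] at e6
    have hx := h.eq_of_neg e6.1
    have hc := h.eq_of_neg e6.2
    subst hx hc
    exact ⟨b', fun hb' => e7 (by rw [hb']; rfl), rfl⟩
  obtain ⟨z₁, z₂, h1, h2', h3⟩ := h.nt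
  obtain ⟨b₁, c1, d1⟩ := e5 z₁ h1
  obtain ⟨b₂, c2, d2⟩ := e5 z₂ h2'
  obtain ⟨k, hk, hkb⟩ := h.exB (b₂ / b₁) 0 (div_ne_zero c2 c1)
  apply h3 _ (mul_mem (mul_mem (inv_mem hγ') hk) hγ')
  simp only [Perm.mul_apply, d1, hkb]
  rw [Perm.inv_eq_iff_eq, d2]
  simp [bo, c1]

theorem fst_ne (hγ : γ ∈ Γ) (hn : ¬ NZ γ) {z : F} (hz : z ≠ 0) : (γ (0, 0, z)).1 ≠ 0 := by
  intro h1
  have e : γ (0, 0, z) = (0, (γ (0, 0, z)).2.1, (γ (0, 0, z)).2.2) := Prod.ext h1 rfl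
  have := h.noB hγ hz e
  rw [this] at e
  exact hn (h.ti hγ hz e)

omit h in
theorem nz_of_mul {δ : Perm (V3 F)} {τ s : F} (hτ : τ ≠ 0) (hδ : ∀ v, δ v = bo τ s v)
    (hn : NZ (δ * γ)) : NZ γ := by
  intro z
  obtain ⟨z', hz⟩ := hn z
  refine ⟨z', δ.injective ?_⟩
  rw [← Perm.mul_apply, hz, hδ]
  simp [bo]

theorem exV (hγ : γ ∈ Γ) (hn : ¬ NZ γ) : ∃ s : F, ∃ δ ∈ Γ, (∀ v, δ v = bo 1 s v) ∧
    ∀ z, ((δ * γ) (0, 0, z)).2.1 = 0 := by
  have h1 := h.fst_ne hγ hn one_ne_zero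
  obtain ⟨δ, hδ, hb⟩ := h.exB 1 (-(γ (0, 0, 1)).2.1 / (γ (0, 0, 1)).1) one_ne_zero
  refine ⟨_, δ, hδ, hb, fun z => ?_⟩
  obtain ⟨t, ht, htb⟩ := h.exB (-1) 0 (by simp)
  have hγ' := mul_mem hδ hγ
  have e' : ((δ * γ) (0, 0, 1)).2.1 = 0 := by
    simp only [Perm.mul_apply, hb, bo]
    field_simp
    ring
  generalize δ * γ = ε at hγ' e'
  have e1 := h.fixZ (mul_mem (mul_mem (inv_mem hγ') ht) hγ') one_ne_zero (by
    simp only [Perm.mul_apply, htb]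
    rw [Perm.inv_eq_iff_eq]
    ext <;> simp [bo, e']) z
  simp only [Perm.mul_apply, htb] at e1
  rw [Perm.inv_eq_iff_eq] at e1
  have := congrArg (·.2.1) e1
  simp [bo] at this
  exact h.eq_of_neg this.symm

theorem notLong (hγ : γ ∈ Γ) (hV : ∀ z, (γ (0, 0, z)).2.1 = 0) {δ : Perm (V3 F)} (hδ : δ ∈ Γ)
    {z z' b : F} (hz' : z' ≠ 0) (e : δ (0, 0, z') = γ (0, 0, z) + (0, b, 0)) : b = 0 := by
  obtain ⟨t, ht, htb⟩ := h.exB (-1) 0 (by simp)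
  have ht1 := mul_mem (mul_mem (inv_mem hγ) ht) hγ
  obtain ⟨τ, s, -, hb⟩ := h.fix _ ht1 1 one_ne_zero (by
    simp only [Perm.mul_apply, htb]
    rw [Perm.inv_eq_iff_eq]
    ext <;> simp [bo, hV])
  have e1 := hb (γ⁻¹ (0, b, 0))
  have e2 : (γ⁻¹ * t * γ) (γ⁻¹ (0, b, 0)) = -γ⁻¹ (0, b, 0) := by
    rw [← h.neg (inv_mem hγ)]
    simp [htb, bo]
  have e3 : (γ⁻¹ * δ) (0, 0, z') = (0, 0, z) + γ⁻¹ (0, b, 0) := by
    rw [Perm.mul_apply, e, h.add _ (inv_mem hγ)]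
    simp
  have e4 := fun e => congrArg (·.2.1) (h.eq_zero (inv_mem hγ) (v := (0, b, 0)) e)
  rw [e2] at e1
  generalize γ⁻¹ (0, b, 0) = u at e1 e3 e4
  obtain ⟨x, b', c'⟩ := u
  simp only [bo, Prod.neg_mk, Prod.mk.injEq] at e1
  have hx : x = 0 := by
    by_contra hx
    apply h.nsq τ
    apply mul_right_cancel₀ hx
    linear_combination -e1.1
  subst hx
  have hb' := h.noB (mul_mem (inv_mem hγ) hδ) hz' (b := b') (c := z + c') (by rw [e3]; simp)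
  subst hb'
  have hc : c' = 0 := h.eq_of_neg (by linear_combination -e1.2.2)
  exact e4 (by rw [hc]; rfl)

theorem uniq (hγ : γ ∈ Γ) (hn : ¬ NZ γ) (hV : ∀ z, (γ (0, 0, z)).2.1 = 0) {δ : Perm (V3 F)}
    (hδ : δ ∈ Γ) (hn' : ¬ NZ δ) (hV' : ∀ z, (δ (0, 0, z)).2.1 = 0) {z z' : F}
    (e : (γ (0, 0, z)).1 = (δ (0, 0, z')).1) : γ (0, 0, z) = δ (0, 0, z') := by
  have key : ∀ {γ δ : Perm (V3 F)}, γ ∈ Γ → (∀ z, (γ (0, 0, z)).2.1 = 0) → δ ∈ Γ →
      (∀ z, (δ (0, 0, z)).2.1 = 0) → ∀ {z z' s : F}, z' ≠ 0 → (δ (0, 0, z')).1 ≠ 0 →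
      (γ (0, 0, z)).1 = (δ (0, 0, z')).1 →
      (γ (0, 0, z)).2.2 - (δ (0, 0, z')).2.2 = s ^ 2 * (δ (0, 0, z')).1 → s = 0 := by
    intro γ δ hγ hV hδ hV' z z' s hz' hx e e'
    obtain ⟨y, hy, hyb⟩ := h.exB 1 s one_ne_zero
    have := h.notLong hγ hV (mul_mem hy hδ) (z := z) (b := s * (δ (0, 0, z')).1) hz' (by
      rw [Perm.mul_apply, hyb]
      ext
      · simp [bo, e]
      · simp [bo, hV, hV']
      · simp [bo, hV']
        linear_combination -e')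
    exact (mul_eq_zero.1 this).resolve_right hx
  by_cases hz : z = 0
  · by_cases hz' : z' = 0
    · rw [hz, hz']
      exact (h.zero hγ).trans (h.zero hδ).symm
    · exfalso
      apply h.fst_ne hδ hn' hz'
      rw [← e, hz]
      exact congrArg (·.1) (h.zero hγ)
  have hx := h.fst_ne hγ hn hz
  have hz' : z' ≠ 0 := by
    rintro rfl
    exact hx (e.trans (congrArg (·.1) (h.zero hδ)))
  refine Prod.ext e (Prod.ext ((hV z).trans (hV' z').symm) ?_)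
  by_contra hne
  rcases h.sq (((γ (0, 0, z)).2.2 - (δ (0, 0, z')).2.2) / (γ (0, 0, z)).1)
    (div_ne_zero (sub_ne_zero.2 hne) hx) with ⟨r, hr⟩ | ⟨r, hr⟩
  · have := key hγ hV hδ hV' (s := r) hz' (e ▸ hx) e (by rw [← e, ← hr]; field_simp)
    rw [this, div_eq_iff hx] at hr
    exact hne (by linear_combination hr)
  · rw [div_eq_iff hx] at hr
    have := key hδ hV' hγ hV (s := r) hz hx e.symm (by linear_combination -hr)
    rw [this] at hr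
    exact hne (by linear_combination hr)

theorem surj [Finite F] (hγ : γ ∈ Γ) (hn : ¬ NZ γ) (x : F) : ∃ z, (γ (0, 0, z)).1 = x := by
  apply Finite.surjective_of_injective (f := fun z : F => (γ (0, 0, z)).1)
  intro z z' e
  by_contra hne
  apply h.fst_ne hγ hn (sub_ne_zero.2 hne)
  rw [show ((0, 0, z - z') : V3 F) = (0, 0, z) + -(0, 0, z') by simp [sub_eq_add_neg],
    h.add _ hγ, h.neg hγ]
  simp only at e
  simp [e]

theorem exists_kappa [Finite F] (hex : ∃ γ ∈ Γ, ¬ NZ γ) : ∃ κ : F, (∀ τ : F, τ ≠ 0 →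
    κ * τ ^ 2 = κ) ∧ ∃ w ∈ Γ, ∀ z, ∃ x, w (0, 0, z) = (x, 0, κ * x) := by
  obtain ⟨γ, hγ, hn⟩ := hex
  obtain ⟨s, δ, hδ, hb, hV⟩ := h.exV hγ hn
  have hw := mul_mem hδ hγ
  have hn' : ¬ NZ (δ * γ) := fun h1 => hn (nz_of_mul one_ne_zero hb h1)
  generalize δ * γ = w at hw hV hn'
  have key : ∀ τ : F, τ ≠ 0 → ∀ z z', (w (0, 0, z')).1 = τ ^ 2 * (w (0, 0, z)).1 →
      (w (0, 0, z')).2.2 = (w (0, 0, z)).2.2 := by
    intro τ hτ z z' e
    obtain ⟨k, hk, hkb⟩ := h.exB τ 0 hτ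
    have := h.uniq hw hn' hV (mul_mem hk hw) (fun h1 => hn' (nz_of_mul hτ hkb h1))
      (fun z => by simp [hkb, bo, hV]) (z := z') (z' := z) (by simp [hkb, bo, e])
    rw [this]
    simp [hkb, bo]
  by_cases h3 : ∀ τ : F, τ ≠ 0 → τ ^ 2 = 1
  · obtain ⟨z₁, hz₁⟩ := h.surj hw hn' 1
    refine ⟨(w (0, 0, z₁)).2.2, fun τ hτ => by rw [h3 τ hτ, mul_one], w, hw, fun z =>
      ⟨(w (0, 0, z)).1, Prod.ext rfl (Prod.ext (hV z) ?_)⟩⟩
    by_cases hz : z = 0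
    · rw [hz, show ((0, 0, 0) : V3 F) = 0 from rfl, h.zero hw]; simp
    rcases sq_eq_one_iff.1 (h3 _ (h.fst_ne hw hn' hz)) with e | e
    · simp only [e, mul_one]
      exact key 1 one_ne_zero z₁ z (by rw [e, hz₁]; simp)
    · simp only [e, mul_neg, mul_one]
      have e1 : w (0, 0, -z₁) = -w (0, 0, z₁) := by rw [← h.neg hw]; simp
      rw [key 1 one_ne_zero (-z₁) z (by rw [e, e1]; simp [hz₁]), e1]
      simp
  · push Not at h3
    obtain ⟨τ, hτ, h1⟩ := h3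
    refine ⟨0, by simp, w, hw, fun z => ⟨(w (0, 0, z)).1, Prod.ext rfl (Prod.ext (hV z) ?_)⟩⟩
    have h2 := sub_ne_zero.2 h1
    obtain ⟨z₁, hz₁⟩ := h.surj hw hn' ((w (0, 0, z)).1 / (τ ^ 2 - 1))
    have e1 : w (0, 0, z + z₁) = w (0, 0, z) + w (0, 0, z₁) := by rw [← h.add _ hw]; simp
    have := key τ hτ z₁ (z + z₁) (by rw [e1, Prod.fst_add, hz₁]; field_simp; ring)
    rw [e1] at this
    simpa using this

/-- `w` interchanges the first and the third axis -/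
structure Swap (Γ : Subgroup (Perm (V3 F))) (w : Perm (V3 F)) : Prop where
  mem : w ∈ Γ
  zx : ∀ z, ∃ x, w (0, 0, z) = (x, 0, 0)
  xz : ∀ x, ∃ z, w (x, 0, 0) = (0, 0, z)

omit h in
theorem not_nz_of_zx {w : Perm (V3 F)} (hw : ∀ z, ∃ x, w (0, 0, z) = (x, 0, 0))
    (h0 : w 0 = 0) : ¬ NZ w := by
  intro h1
  obtain ⟨z, hz⟩ := h1 1
  obtain ⟨x, hx⟩ := hw 1
  rw [hx] at hz
  simp only [Prod.mk.injEq, true_and] at hz
  rw [hz.1] at hx
  have := w.injective (hx.trans h0.symm)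
  simp at this

theorem long [Finite F] {w : Perm (V3 F)} (hw : w ∈ Γ) (hzx : ∀ z, ∃ x, w (0, 0, z) = (x, 0, 0))
    (hγ : γ ∈ Γ) (hn : ¬ NZ γ) : ∃ s : F, ∃ δ ∈ Γ, (∀ v, δ v = bo 1 s v) ∧
      ∀ z, ∃ x, (δ * γ) (0, 0, z) = (x, 0, 0) := by
  obtain ⟨s, δ, hδ, hb, hV⟩ := h.exV hγ hn
  refine ⟨s, δ, hδ, hb, fun z => ?_⟩
  have hnw := not_nz_of_zx hzx (h.zero hw)
  obtain ⟨z', hz'⟩ := h.surj hw hnw ((δ * γ) (0, 0, z)).1
  rw [← h.uniq hw hnw (fun z => by obtain ⟨x, hx⟩ := hzx z; rw [hx]) (mul_mem hδ hγ)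
    (fun h1 => hn (nz_of_mul one_ne_zero hb h1)) hV hz']
  exact hzx z'

theorem inv_xz [Finite F] {w : Perm (V3 F)} (hw : w ∈ Γ)
    (hzx : ∀ z, ∃ x, w (0, 0, z) = (x, 0, 0)) (x : F) : ∃ z, w⁻¹ (x, 0, 0) = (0, 0, z) := by
  obtain ⟨z, hz⟩ := h.surj hw (not_nz_of_zx hzx (h.zero hw)) x
  obtain ⟨x', hx'⟩ := hzx z
  refine ⟨z, ?_⟩
  rw [Perm.inv_eq_iff_eq, ← hz, hx']

omit h in
theorem inv_zx [Finite F] {w : Perm (V3 F)} (hxz : ∀ x, ∃ z, w (x, 0, 0) = (0, 0, z)) (z : F) :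
    ∃ x, w⁻¹ (0, 0, z) = (x, 0, 0) := by
  choose f hf using hxz
  obtain ⟨x, hx⟩ := Finite.surjective_of_injective (f := f) (fun a b e => by
    have := w.injective ((hf a).trans (e ▸ (hf b).symm))
    simpa using this) z
  exact ⟨x, by rw [Perm.inv_eq_iff_eq, hf, hx]⟩

omit h in
theorem NZ.inv [Finite F] {w : Perm (V3 F)} (hw : NZ w) : NZ w⁻¹ := by
  intro z
  choose f hf using hw
  obtain ⟨x, hx⟩ := Finite.surjective_of_injective (f := f) (fun a b e => by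
    have := w.injective ((hf a).trans (e ▸ (hf b).symm))
    simpa using this) z
  exact ⟨x, by rw [Perm.inv_eq_iff_eq, hf, hx]⟩

theorem exists_swap [Finite F] {w : Perm (V3 F)} (hw : w ∈ Γ)
    (hzx : ∀ z, ∃ x, w (0, 0, z) = (x, 0, 0)) : ∃ w', Swap Γ w' := by
  obtain ⟨s, δ, hδ, hb, hX⟩ := h.long hw hzx (inv_mem hw) (fun h1 =>
    not_nz_of_zx hzx (h.zero hw) (by simpa using NZ.inv h1))
  refine ⟨_, mul_mem hδ (inv_mem hw), hX, fun x => ?_⟩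
  obtain ⟨z, hz⟩ := h.inv_xz hw hzx x
  exact ⟨z, by rw [Perm.mul_apply, hz, hb]; simp [bo]⟩

theorem swap_inv [Finite F] {w : Perm (V3 F)} (hw : Swap Γ w) : Swap Γ w⁻¹ :=
  ⟨inv_mem hw.mem, inv_zx hw.xz, h.inv_xz hw.mem hw.zx⟩

theorem presB (hγ : γ ∈ Γ) (h1 : ∀ x, (γ (x, 0, 0)).2.1 = 0) (h2 : ∀ z, (γ (0, 0, z)).2.1 = 0)
    (b : F) : ∃ b', γ (0, b, 0) = (0, b', 0) := by
  obtain ⟨t, ht, htb⟩ := h.exB (-1) 0 (by simp)
  obtain ⟨τ, s, -, hb⟩ := h.fix _ (mul_mem (mul_mem (inv_mem hγ) ht) hγ) 1 one_ne_zero (by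
    simp only [Perm.mul_apply, htb]
    rw [Perm.inv_eq_iff_eq]
    ext <;> simp [bo, h2])
  have e1 : (γ⁻¹ * t * γ) (1, 0, 0) = (1, 0, 0) := by
    simp only [Perm.mul_apply, htb]
    rw [Perm.inv_eq_iff_eq]
    ext <;> simp [bo, h1]
  rw [hb] at e1
  simp [bo] at e1
  obtain ⟨e1, -, e2⟩ := e1
  subst e2
  rcases e1 with rfl | rfl
  · exfalso
    have e3 := hb (γ⁻¹ (0, 1, 0))
    simp only [Perm.mul_apply, pai, htb] at e3
    rw [show bo 1 0 (γ⁻¹ (0, 1, 0)) = γ⁻¹ (0, 1, 0) by ext <;> simp [bo]] at e3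
    have := γ⁻¹.injective e3
    simp [bo] at this
    exact one_ne_zero (h.eq_of_neg this.symm)
  · have e3 := hb (0, b, 0)
    simp only [Perm.mul_apply, htb] at e3
    rw [Perm.inv_eq_iff_eq, show bo (-1) 0 (0, b, 0) = -(0, b, 0) by simp [bo], h.neg hγ] at e3
    generalize γ (0, b, 0) = u at e3
    obtain ⟨x, b', c'⟩ := u
    simp [bo] at e3
    exact ⟨b', by rw [h.eq_of_neg e3.1, h.eq_of_neg e3.2]⟩

theorem swapB {w : Perm (V3 F)} (hw : Swap Γ w) (b : F) : ∃ b', w (0, b, 0) = (0, b', 0) :=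
  h.presB hw.mem (fun x => by obtain ⟨z, hz⟩ := hw.xz x; rw [hz])
    (fun x => by obtain ⟨z, hz⟩ := hw.zx x; rw [hz]) b

/-- the conjugate of the torus under a swap acts linearly -/
theorem torus [Finite F] {w : Perm (V3 F)} (hw : Swap Γ w) {τ : F} (hτ : τ ≠ 0) :
    ∃ ρ : F, ρ ≠ 0 ∧ ∃ k ∈ Γ, (∀ v, k v = sym2 1 0 0 ρ v) ∧ ∀ v, k (w v) = w (bo τ 0 v) := by
  obtain ⟨H, hH, hHb⟩ := h.exB τ 0 hτ
  have hw' := h.swap_inv hw
  have hk := mul_mem (mul_mem hw.mem hH) hw'.mem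
  have kX : ∀ x, (w * H * w⁻¹) (x, 0, 0) = (x, 0, 0) := by
    intro x
    obtain ⟨z, hz⟩ := hw'.xz x
    simp only [Perm.mul_apply, hz, hHb]
    rw [show bo τ 0 (0, 0, z) = (0, 0, z) by simp [bo], ← hz, pai]
  have kB : ∀ b, ∃ b', (w * H * w⁻¹) (0, b, 0) = (0, b', 0) := by
    intro b
    obtain ⟨b1, e1⟩ := h.swapB hw' b
    obtain ⟨b2, e2⟩ := h.swapB hw (τ * b1)
    exact ⟨b2, by simp only [Perm.mul_apply, e1]; simp [hHb, bo, e2]⟩
  have kZ : NZ (w * H * w⁻¹) := by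
    intro z
    obtain ⟨b1, e1⟩ := hw'.zx z
    obtain ⟨b2, e2⟩ := hw.xz (τ ^ 2 * b1)
    exact ⟨b2, by simp only [Perm.mul_apply, e1]; simp [hHb, bo, e2]⟩
  have kw : ∀ v, (w * H * w⁻¹) (w v) = w (bo τ 0 v) := fun v => by simp [hHb]
  generalize w * H * w⁻¹ = k at hk kX kB kZ kw
  obtain ⟨y, hy, hyb⟩ := h.exB 1 1 one_ne_zero
  obtain ⟨ρ, s, -, hb⟩ := h.fix _ (mul_mem (mul_mem hk hy) (inv_mem hk)) 1 one_ne_zero (by
    obtain ⟨z, hz⟩ := NZ.inv kZ 1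
    simp only [Perm.mul_apply, hz, hyb]
    rw [show bo 1 1 (0, 0, z) = (0, 0, z) by simp [bo], ← hz, pai])
  have e : ∀ v, bo ρ s (k v) = k (bo 1 1 v) := fun v => by rw [← hb]; simp [hyb]
  choose a ha using kB
  choose c hc using kZ
  have a1 : a 1 ≠ 0 := fun e0 => by
    have := h.eq_zero hk (v := (0, 1, 0)) (by rw [ha, e0]; rfl)
    simp at this
  have hρ : ρ = 1 := by
    have e1 := e (0, 1, 0)
    rw [h.split hk, h.split hk (bo 1 1 _).1] at e1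
    simp [bo, kX, ha, hc] at e1
    exact mul_right_cancel₀ a1 (by rw [e1.1, one_mul])
  subst hρ
  have e2 : ∀ x, a x = s * x ∧ c x = s ^ 2 * x := by
    intro x
    have e1 := e (x, 0, 0)
    rw [h.split hk (bo 1 1 _).1] at e1
    simp [bo, kX, ha, hc] at e1
    exact ⟨e1.1.symm, e1.2.symm⟩
  refine ⟨s, fun e0 => a1 (by rw [(e2 1).1, e0, zero_mul]), k, hk, fun v => ?_, kw⟩
  obtain ⟨x, b, z⟩ := v
  rw [h.split hk, kX, ha, hc, (e2 b).1, (e2 z).2]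
  simp [sym2]

theorem diag [Finite F] {w : Perm (V3 F)} (hw : Swap Γ w) (hγ : γ ∈ Γ) (h1 : NZ γ)
    (h2 : ∀ x, ∃ x', γ (x, 0, 0) = (x', 0, 0)) :
    ∃ a d : F, a ≠ 0 ∧ d ≠ 0 ∧ ∀ v, γ v = sym2 a 0 0 d v := by
  have hw' := h.swap_inv hw
  obtain ⟨z₁, hz₁⟩ := hw.xz 1
  have n1 : z₁ ≠ 0 := by
    rintro rfl
    have := h.eq_zero hw.mem hz₁
    simp at this
  obtain ⟨z₂, hz₂⟩ := h1 z₁
  obtain ⟨y, hy⟩ := hw'.zx z₂
  rw [Perm.inv_eq_iff_eq] at hy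
  have n2 : y ≠ 0 := by
    rintro rfl
    have := h.eq_zero hγ (hz₂.trans (hy.trans (h.zero hw.mem)))
    simp [n1] at this
  rcases h.sq y n2 with ⟨r, hr⟩ | ⟨r, hr⟩
  · have n3 : r ≠ 0 := by rintro rfl; simp [hr] at n2
    obtain ⟨ρ, hρ, k, hk, kb, kw⟩ := h.torus hw n3
    obtain ⟨τ, s, hτ, hb⟩ := h.fix _ (mul_mem (inv_mem hk) hγ) z₁ n1 (by
      rw [Perm.mul_apply, Perm.inv_eq_iff_eq, hz₂, ← hz₁, kw, hy, hr]
      simp [bo])
    have e : ∀ v, γ v = k (bo τ s v) := fun v => by rw [← hb]; simp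
    obtain ⟨x', hx'⟩ := h2 1
    rw [e, kb] at hx'
    simp [bo, sym2, hρ] at hx'
    refine ⟨τ, ρ, hτ, hρ, fun v => ?_⟩
    rw [e, kb, bo_eq, sym2_sym2, hx'.2.2]
    simp
  · exfalso
    have n3 : r ≠ 0 := by rintro rfl; simp [hr] at n2
    have key : ∀ z, z ≠ 0 → ∃ δ ∈ Γ, δ (0, 0, z₁) = (0, 0, z) := by
      intro z hz
      obtain ⟨x, hx⟩ := hw'.zx z
      rw [Perm.inv_eq_iff_eq] at hx
      have n4 : x ≠ 0 := by
        rintro rfl
        have := hx.trans (h.zero hw.mem)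
        simp [hz] at this
      rcases h.sq x n4 with ⟨u, hu⟩ | ⟨u, hu⟩
      · have n5 : u ≠ 0 := by rintro rfl; simp [hu] at n4
        obtain ⟨ρ, hρ, k, hk, kb, kw⟩ := h.torus hw n5
        exact ⟨k, hk, by rw [← hz₁, kw, hx, hu]; simp [bo]⟩
      · have n5 : u ≠ 0 := by rintro rfl; simp [hu] at n4
        obtain ⟨ρ, hρ, k, hk, kb, kw⟩ := h.torus hw (div_ne_zero n5 n3)
        refine ⟨k * γ, mul_mem hk hγ, ?_⟩
        rw [Perm.mul_apply, hz₂, hy, kw, hx, hu, hr]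
        simp [bo]
        field_simp
    obtain ⟨a, b, ha, hb, hab⟩ := h.nt
    obtain ⟨δ₁, d1, e1⟩ := key a ha
    obtain ⟨δ₂, d2, e2⟩ := key b hb
    apply hab _ (mul_mem d2 (inv_mem d1))
    rw [Perm.mul_apply, ← e1, pia, e2]

theorem swap_lin [Finite F] {w : Perm (V3 F)} (hw : Swap Γ w) :
    ∃ c c₂ : F, c ≠ 0 ∧ c₂ ≠ 0 ∧ (∀ b, w (0, b, 0) = (0, c * b, 0)) ∧
      ∀ x, w (x, 0, 0) = (0, 0, c₂ * x) := by
  choose σ hσ using h.swapB hw
  choose θ hθ using hw.xz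
  have σ0 : ∀ b, σ b = 0 → b = 0 := fun b e => by
    have := h.eq_zero hw.mem (v := (0, b, 0)) (by rw [hσ, e]; rfl)
    simpa using this
  have θ0 : ∀ b, θ b = 0 → b = 0 := fun b e => by
    have := h.eq_zero hw.mem (v := (b, 0, 0)) (by rw [hθ, e]; rfl)
    simpa using this
  have σ1 : σ 1 ≠ 0 := fun e => one_ne_zero (σ0 1 e)
  have σz : σ 0 = 0 := by
    have := (hσ 0).symm.trans (h.zero hw.mem)
    simpa using this
  have σadd : ∀ a b, σ (a + b) = σ a + σ b := fun a b => by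
    have := h.add _ hw.mem (0, a, 0) (0, b, 0)
    simpa [hσ] using this
  have σneg : ∀ a, σ (-a) = -σ a := fun a => by
    have := h.neg hw.mem (0, a, 0)
    simpa [hσ] using this
  have θneg : ∀ a, θ (-a) = -θ a := fun a => by
    have := h.neg hw.mem (a, 0, 0)
    simpa [hθ] using this
  have key : ∀ τ, τ ≠ 0 → (∀ b, σ (τ * b) * σ 1 = σ τ * σ b) ∧
      ∀ x, θ (τ ^ 2 * x) * σ 1 ^ 2 = σ τ ^ 2 * θ x := by
    intro τ hτ
    obtain ⟨ρ, hρ, k, hk, kb, kw⟩ := h.torus hw hτ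
    have e1 : ∀ b, σ (τ * b) = ρ * σ b := fun b => by
      have := kw (0, b, 0)
      simpa [hσ, kb, sym2, bo, eq_comm] using this
    have e2 : ∀ b, θ (τ ^ 2 * b) = ρ ^ 2 * θ b := fun b => by
      have := kw (b, 0, 0)
      simpa [hθ, kb, sym2, bo, eq_comm] using this
    have e3 := e1 1
    rw [mul_one] at e3
    exact ⟨fun b => by rw [e1, e3]; ring, fun x => by rw [e2, e3]; ring⟩
  have σmul : ∀ a b, σ (a * b) * σ 1 = σ a * σ b := fun a b => by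
    by_cases ha : a = 0
    · simp [ha, σz]
    · exact (key a ha).1 b
  obtain ⟨a, d, ha, hd, hw2⟩ := h.diag hw (mul_mem hw.mem hw.mem) (fun z => by
    obtain ⟨x, hx⟩ := hw.zx z
    exact ⟨θ x, by rw [Perm.mul_apply, hx, hθ]⟩) (fun x => by
    obtain ⟨y, hy⟩ := hw.zx (θ x)
    exact ⟨y, by rw [Perm.mul_apply, hθ, hy]⟩)
  have σσ : ∀ b, σ (σ b) = a * d * b := fun b => by
    have := hw2 (0, b, 0)
    simpa [hσ, sym2] using this
  have σlin : ∀ b, σ b = σ 1 * b := by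
    intro b
    by_contra hne
    -- `f x = σ x / σ 1` is a field automorphism of order two
    have f2 : σ (σ b / σ 1) = σ 1 * b := by
      have e1 := σmul (σ b / σ 1) (σ 1)
      rw [div_mul_cancel₀ _ σ1, σσ, σσ, mul_one] at e1
      apply mul_right_cancel₀ (mul_ne_zero ha hd)
      linear_combination -e1
    have n1 : b - σ b / σ 1 ≠ 0 := fun e => hne (by
      rw [sub_eq_zero, eq_div_iff σ1] at e
      rw [← e, mul_comm])
    have f3 : σ (b - σ b / σ 1) = -(σ 1 * (b - σ b / σ 1)) := by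
      rw [sub_eq_add_neg, σadd, σneg, f2]
      field_simp
      ring
    have f4 : ∀ r : F, r ≠ 0 → σ (r ^ 2) ≠ -(σ 1 * r ^ 2) := by
      intro r hr e
      apply h.nsq (σ r / (σ 1 * r))
      have := σmul r r
      rw [← pow_two, e] at this
      field_simp
      linear_combination -this
    rcases h.sq _ n1 with ⟨r, hr⟩ | ⟨r, hr⟩
    · rw [hr] at f3 n1
      exact f4 r (by rintro rfl; simp at n1) f3
    · rw [hr] at f3 n1
      rw [σneg] at f3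
      exact f4 r (by rintro rfl; simp at n1) (by linear_combination -f3)
  have θsq : ∀ r, θ (r ^ 2) = θ 1 * r ^ 2 := by
    intro r
    by_cases hr : r = 0
    · have := (hθ 0).symm.trans (h.zero hw.mem)
      simpa [hr] using this
    · have := (key r hr).2 1
      rw [mul_one, σlin r] at this
      apply mul_right_cancel₀ (pow_ne_zero 2 σ1)
      linear_combination this
  refine ⟨σ 1, θ 1, σ1, fun e => one_ne_zero (θ0 1 e), fun b => by rw [hσ, σlin], fun x => ?_⟩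
  rw [hθ]
  by_cases hx : x = 0
  · have := θsq 0
    simp only [ne_eq, OfNat.ofNat_ne_zero, not_false_eq_true, zero_pow] at this
    rw [hx, this]
  rcases h.sq x hx with ⟨r, hr⟩ | ⟨r, hr⟩
  · rw [hr, θsq]
  · rw [hr, θneg, θsq, mul_neg]

/-- `Γ` contains the action of the matrix -/
def In (Γ : Subgroup (Perm (V3 F))) (a b c d : F) : Prop := ∃ γ ∈ Γ, ∀ v, γ v = sym2 a b c d v

omit h in
theorem In.mul {a b c d a' b' c' d' a'' b'' c'' d'' : F} (h1 : In Γ a b c d)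
    (h2 : In Γ a' b' c' d') (e1 : a'' = a * a' + b * c') (e2 : b'' = a * b' + b * d')
    (e3 : c'' = c * a' + d * c') (e4 : d'' = c * b' + d * d') : In Γ a'' b'' c'' d'' := by
  obtain ⟨γ, hγ, f1⟩ := h1
  obtain ⟨δ, hδ, f2⟩ := h2
  exact ⟨γ * δ, mul_mem hγ hδ, fun v => by rw [Perm.mul_apply, f2, f1, sym2_sym2, e1, e2, e3, e4]⟩

theorem in_low {τ : F} (hτ : τ ≠ 0) (s : F) : In Γ τ 0 s 1 := by
  obtain ⟨γ, hγ, e⟩ := h.exB τ s hτ
  exact ⟨γ, hγ, fun v => by rw [e, bo_eq]⟩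

theorem in_all [Finite F] {w : Perm (V3 F)} (hw : Swap Γ w) {a b c d : F}
    (hd : a * d - b * c ≠ 0) : In Γ a b c d := by
  obtain ⟨e, e₂, n1, n2, wB, wX⟩ := h.swap_lin hw
  obtain ⟨e', e₁, n3, n4, wB', wX'⟩ := h.swap_lin (h.swap_inv hw)
  have wZ : ∀ z, w (0, 0, z) = (z / e₁, 0, 0) := fun z => by
    rw [← Perm.eq_inv_iff_eq, wX', mul_div_cancel₀ _ n4]
  have wv : ∀ v, w v = (v.2.2 / e₁, e * v.2.1, e₂ * v.1) := fun v => by
    obtain ⟨x, b, z⟩ := v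
    rw [h.split hw.mem, wX, wB, wZ]
    simp
  have conic : e ^ 2 * e₁ = e₂ := by
    obtain ⟨y, hy, hyb⟩ := h.exB 1 1 one_ne_zero
    obtain ⟨s, δ, hδ, hb, hX⟩ := h.long hw.mem hw.zx (mul_mem (mul_mem hw.mem hy) hw.mem)
      (fun h1 => by
        obtain ⟨z, hz⟩ := h1 1
        simp [wv, hyb, bo, n4] at hz)
    obtain ⟨x, hx⟩ := hX 1
    simp only [Perm.mul_apply, wv, hyb, hb, bo, Prod.mk.injEq] at hx
    obtain ⟨-, f1, f2⟩ := hx
    field_simp at f1 f2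
    have : s = -e * e₁ := by linear_combination f1
    rw [this] at f2
    apply mul_left_cancel₀ n4
    linear_combination -f2
  have hup : ∀ r, In Γ 1 r 0 1 := by
    intro r
    obtain ⟨y, hy, hyb⟩ := h.exB 1 (r * e * e₁) one_ne_zero
    refine ⟨w * y * w⁻¹, mul_mem (mul_mem hw.mem hy) (inv_mem hw.mem), fun v => ?_⟩
    obtain ⟨u, rfl⟩ := w.surjective v
    rw [Perm.mul_apply, Perm.mul_apply, pia]
    simp only [hyb, wv, bo, sym2, ← conic]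
    ext <;> simp only <;> field_simp <;> ring
  have hdi : ∀ ρ, ρ ≠ 0 → In Γ 1 0 0 ρ := by
    intro ρ hρ
    obtain ⟨ρ', -, k, hk, kb, kw⟩ := h.torus hw hρ
    have := kw (0, 1, 0)
    simp [wv, kb, sym2, bo] at this
    have e1 : ρ' = ρ := mul_right_cancel₀ n1 (this.trans (mul_comm _ _))
    exact ⟨k, hk, e1 ▸ kb⟩
  have key : ∀ a b c d : F, a ≠ 0 → a * d - b * c ≠ 0 → In Γ a b c d := by
    intro a b c d ha hd
    have h1 : In Γ a 0 c ((a * d - b * c) / a) :=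
      (h.in_low ha c).mul (hdi _ (div_ne_zero hd ha)) (by ring) (by ring) (by ring) (by ring)
    exact h1.mul (hup (b / a)) (by ring) (by field_simp; ring) (by ring) (by field_simp; ring)
  by_cases ha : a = 0
  · have hb : b ≠ 0 := by rintro rfl; simp [ha] at hd
    exact (key b b (c + d) d hb (by rw [ha] at hd; intro e; apply hd; linear_combination e)).mul
      (h.in_low one_ne_zero (-1)) (by rw [ha]; ring) (by ring) (by ring) (by ring)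
  · exact key a b c d ha hd

theorem out_all [Finite F] {w : Perm (V3 F)} (hw : Swap Γ w) (hγ : γ ∈ Γ) :
    ∃ a b c d : F, a * d - b * c ≠ 0 ∧ ∀ v, γ v = sym2 a b c d v := by
  obtain ⟨w₀, h0, e0⟩ := h.in_all hw (a := 0) (b := 1) (c := 1) (d := 0) (by simp)
  have key : ∀ γ ∈ Γ, NZ γ → ∃ a b c d : F, a * d - b * c ≠ 0 ∧ ∀ v, γ v = sym2 a b c d v := by
    intro γ hγ hn
    obtain ⟨s, δ, hδ, hb, hX⟩ := h.long hw.mem hw.zx (mul_mem hγ h0) (fun h1 => by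
      obtain ⟨z, hz⟩ := h1 1
      obtain ⟨z', hz'⟩ := NZ.inv hn z
      rw [Perm.mul_apply, ← Perm.eq_inv_iff_eq, hz', e0] at hz
      simp [sym2] at hz)
    obtain ⟨a, d, ha, hd, e⟩ := h.diag hw (mul_mem hδ hγ) (fun z => by
      obtain ⟨z', hz⟩ := hn z
      exact ⟨z', by rw [Perm.mul_apply, hz, hb]; simp [bo]⟩) (fun x => by
      obtain ⟨y, hy⟩ := hX x
      exact ⟨y, by rw [← hy]; simp [e0, sym2]⟩)
    refine ⟨a, 0, -s * a, d, by simp [ha, hd], fun v => δ.injective ?_⟩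
    rw [← Perm.mul_apply, e, hb, bo_eq, sym2_sym2]
    congr 1 <;> ring
  by_cases hn : NZ γ
  · exact key γ hγ hn
  obtain ⟨s, δ, hδ, hb, hX⟩ := h.long hw.mem hw.zx hγ hn
  obtain ⟨a, b, c, d, hd, e⟩ := key _ (mul_mem h0 (mul_mem hδ hγ)) (fun z => by
    obtain ⟨y, hy⟩ := hX z
    exact ⟨y, by rw [Perm.mul_apply, hy, e0]; simp [sym2]⟩)
  refine ⟨c, d, a - s * c, b - s * d, fun e => hd (by linear_combination -e),
    fun v => δ.injective (w₀.injective ?_)⟩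
  rw [← Perm.mul_apply δ, ← Perm.mul_apply, e, hb, bo_eq, e0, sym2_sym2, sym2_sym2]
  congr 1 <;> ring

end GH

/-- the shear used to normalise coordinates -/
def shear (κ : F) : Perm (V3 F) where
  toFun v := (v.1, v.2.1, v.2.2 + κ * v.1)
  invFun v := (v.1, v.2.1, v.2.2 - κ * v.1)
  left_inv v := by simp
  right_inv v := by simp

theorem GH.main [Finite F] {Γ : Subgroup (Perm (V3 F))} (h : GH Γ) (hex : ∃ γ ∈ Γ, ¬ NZ γ) :
    ∃ σ : Perm (V3 F), ∀ γ, σ * γ * σ⁻¹ ∈ Γ ↔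
      ∃ a b c d : F, a * d - b * c ≠ 0 ∧ ∀ v, γ v = sym2 a b c d v := by
  obtain ⟨κ, hκ, w, hw, hwz⟩ := h.exists_kappa hex
  have s1 : ∀ v, shear κ v = (v.1, v.2.1, v.2.2 + κ * v.1) := fun v => rfl
  have s2 : ∀ v, (shear κ)⁻¹ v = (v.1, v.2.1, v.2.2 - κ * v.1) := fun v => rfl
  have s3 : ∀ τ s : F, τ ≠ 0 → ∀ v, shear κ (bo τ s v) = bo τ s (shear κ v) := by
    intro τ s hτ v
    simp only [s1, bo, Prod.mk.injEq, true_and]
    linear_combination v.1 * hκ τ hτ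
  let Γ' := Γ.comap (MulAut.conj (shear κ)).toMonoidHom
  have m : ∀ γ, γ ∈ Γ' ↔ shear κ * γ * (shear κ)⁻¹ ∈ Γ := fun γ => Iff.rfl
  have m' : ∀ γ ∈ Γ, (shear κ)⁻¹ * γ * shear κ ∈ Γ' := fun γ hγ => by
    rw [m]; simpa [mul_assoc] using hγ
  have h' : GH Γ' :=
    { two := h.two
      sq := h.sq
      nsq := h.nsq
      add := fun γ hγ a b => by
        have := h.add _ ((m γ).1 hγ) (shear κ a) (shear κ b)
        rw [show shear κ a + shear κ b = shear κ (a + b) by simp [s1]; ring] at this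
        simp only [Perm.mul_apply, pia] at this
        apply (shear κ).injective
        rw [this]
        simp [s1]; ring
      exB := fun τ s hτ => by
        obtain ⟨γ, hγ, e⟩ := h.exB τ s hτ
        exact ⟨_, m' γ hγ, fun v => by
          rw [Perm.mul_apply, Perm.mul_apply, e, ← s3 τ s hτ, pia]⟩
      fix := fun γ hγ z hz e => by
        obtain ⟨τ, s, hτ, e'⟩ := h.fix _ ((m γ).1 hγ) z hz (by simp only [Perm.mul_apply, s2]; simp [s1, e])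
        refine ⟨τ, s, hτ, fun v => (shear κ).injective ?_⟩
        rw [s3 τ s hτ, ← e']
        simp
      nt := by
        obtain ⟨z₁, z₂, h1, h2, h3⟩ := h.nt
        exact ⟨z₁, z₂, h1, h2, fun γ hγ e => h3 _ ((m γ).1 hγ) (by simp only [Perm.mul_apply, s2]; simp [s1, e])⟩ }
  obtain ⟨w', hw'⟩ := h'.exists_swap (m' w hw) (fun z => by
    obtain ⟨x, hx⟩ := hwz z
    exact ⟨x, by simp only [Perm.mul_apply, s2]; simp [s1, hx]⟩)
  refine ⟨shear κ, fun γ => ⟨fun hγ => h'.out_all hw' hγ, ?_⟩⟩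
  rintro ⟨a, b, c, d, hd, e⟩
  obtain ⟨δ, hδ, e'⟩ := h'.in_all hw' hd
  rwa [show γ = δ from Equiv.ext fun v => (e v).trans (e' v).symm]

end H9
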