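import Cfsg.Agent.H9.Sp4c
import Mathlib.LinearAlgebra.Matrix.GeneralLinearGroup.Projective
import Mathlib.GroupTheory.SpecificGroups.Cyclic

set_option autoImplicit false

namespace H9

open Equiv Matrix

theorem nonempty_equiv_range_of_ker_eq {A B C : Type*} [Group A] [Group B] [Group C]
    (f : A →* B) (hf : Function.Surjective f) (ψ : A →* C) (h : f.ker = ψ.ker) :
    Nonempty (ψ.range ≃* B) :=
  ⟨(QuotientGroup.quotientKerEquivRange ψ).symm.trans
    ((QuotientGroup.quotientMulEquivOfEq h.symm).trans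
      (QuotientGroup.quotientKerEquivOfSurjective f hf))⟩

variable {F : Type*} [Field F]

theorem sym2_smul (a b c d l : F) (v : V3 F) : sym2 a b c d (l • v) = l • sym2 a b c d v := by
  ext <;> simp [sym2] <;> ring

theorem sym2_scale (a b c d r : F) (v : V3 F) :
    sym2 (r * a) (r * b) (r * c) (r * d) v = r ^ 2 • sym2 a b c d v := by
  ext <;> simp [sym2] <;> ring

/-- the action of `GL₂(F) × Fˣ` on symmetric matrices -/
@[reducible] def symAct (F : Type*) [Field F] : MulAction (GL (Fin 2) F × Fˣ) (V3 F) where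
  smul g v := (g.2 : F) • sym2 (g.1 0 0) (g.1 0 1) (g.1 1 0) (g.1 1 1) v
  one_smul v := by
    change ((1 : Fˣ) : F) • sym2 ((1 : GL (Fin 2) F) 0 0) ((1 : GL (Fin 2) F) 0 1)
      ((1 : GL (Fin 2) F) 1 0) ((1 : GL (Fin 2) F) 1 1) v = v
    simp [sym2_one]
  mul_smul g k v := by
    change ((g.2 * k.2 : Fˣ) : F) • sym2 ((g.1 * k.1) 0 0) ((g.1 * k.1) 0 1)
      ((g.1 * k.1) 1 0) ((g.1 * k.1) 1 1) v = (g.2 : F) • sym2 (g.1 0 0) (g.1 0 1) (g.1 1 0)
        (g.1 1 1) ((k.2 : F) • sym2 (k.1 0 0) (k.1 0 1) (k.1 1 0) (k.1 1 1) v)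
    rw [sym2_smul, sym2_sym2, smul_smul]
    simp [Matrix.mul_apply, Fin.sum_univ_two]

/-- the corresponding permutation representation -/
def symHom (F : Type*) [Field F] : GL (Fin 2) F × Fˣ →* Perm (V3 F) :=
  letI := symAct F
  MulAction.toPermHom _ _

theorem symHom_apply (g : GL (Fin 2) F × Fˣ) (v : V3 F) :
    symHom F g v = (g.2 : F) • sym2 (g.1 0 0) (g.1 0 1) (g.1 1 0) (g.1 1 1) v := rfl

theorem exists_sym_iso [Finite F] {k : ℕ} (hF : Nat.card F = 4 * k + 3) :
    ∃ R : Subgroup (Perm (V3 F)),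
      (∀ γ, γ ∈ R ↔ ∃ a b c d : F, a * d - b * c ≠ 0 ∧ ∀ v, γ v = sym2 a b c d v) ∧
      Nonempty (R ≃* (ProjGenLinGroup (Fin 2) F × Multiplicative (ZMod (2 * k + 1)))) := by
  classical
  have hU : Nat.card Fˣ = 2 * (2 * k + 1) := by
    rw [Nat.card_units, hF]; omega
  let S : Subgroup Fˣ := (powMonoidHom 2 : Fˣ →* Fˣ).range
  have hS : Nat.card S = 2 * k + 1 := by
    rw [IsCyclic.card_powMonoidHom_range, hU, Nat.gcd_eq_right (Dvd.intro _ rfl)]
    omega
  let ι : GL (Fin 2) F × S →* GL (Fin 2) F × Fˣ := (MonoidHom.fst _ _).prod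
    ((S.subtype.comp (MonoidHom.snd _ _)) *
      ((powMonoidHom (2 * k)).comp (GeneralLinearGroup.det.comp (MonoidHom.fst _ _))))
  let ψ := (symHom F).comp ι
  have hψ : ∀ (g : GL (Fin 2) F) (s : S) (v : V3 F), ψ (g, s) v =
      (((s : Fˣ) : F) * (g 0 0 * g 1 1 - g 0 1 * g 1 0) ^ (2 * k)) •
        sym2 (g 0 0) (g 0 1) (g 1 0) (g 1 1) v := by
    intro g s v
    simp [ψ, ι, symHom_apply, Matrix.det_fin_two]
  have hdet : ∀ g : GL (Fin 2) F, g 0 0 * g 1 1 - g 0 1 * g 1 0 ≠ 0 := fun g => by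
    have := g.det_ne_zero
    rwa [Matrix.det_fin_two] at this
  have hpow : ∀ a : F, a ≠ 0 → a ^ (2 * (2 * k + 1)) = 1 := fun a ha => by
    have := pow_card_eq_one' (x := Units.mk0 a ha)
    rw [hU] at this
    exact congrArg Units.val this
  refine ⟨ψ.range, fun γ => ⟨?_, ?_⟩, ?_⟩
  · rintro ⟨⟨g, ⟨_, r, rfl⟩⟩, rfl⟩
    let ρ : F := r * (g 0 0 * g 1 1 - g 0 1 * g 1 0) ^ k
    have hρ : ρ ≠ 0 := mul_ne_zero r.ne_zero (pow_ne_zero _ (hdet g))
    refine ⟨ρ * g 0 0, ρ * g 0 1, ρ * g 1 0, ρ * g 1 1, ?_, fun v => ?_⟩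
    · intro e
      apply mul_ne_zero (pow_ne_zero 2 hρ) (hdet g)
      linear_combination e
    · rw [hψ, sym2_scale]
      congr 1
      simp [ρ]
      ring
  · rintro ⟨a, b, c, d, hd, e⟩
    let g : GL (Fin 2) F := GeneralLinearGroup.mkOfDetNeZero !![a, b; c, d]
      (by rwa [Matrix.det_fin_two_of])
    refine ⟨(g, ⟨_, (Units.mk0 _ hd ^ k)⁻¹, rfl⟩), Equiv.ext fun v => ?_⟩
    rw [hψ, e]
    have : ((a * d - b * c) ^ k)⁻¹ ^ 2 * (a * d - b * c) ^ (2 * k) = 1 := by
      field_simp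
      ring
    simp only [inv_pow] at this
    simp [g, this]
  · obtain ⟨e⟩ := nonempty_equiv_range_of_ker_eq
      ((ProjGenLinGroup.mk (n := Fin 2) (R := F)).prodMap (MonoidHom.id S))
      (ProjGenLinGroup.mk_surjective.prodMap Function.surjective_id) ψ (by
      ext ⟨g, s⟩
      simp only [MonoidHom.mem_ker, MonoidHom.coe_prodMap, Prod.map, MonoidHom.id_apply,
        Prod.mk_eq_one, ProjGenLinGroup.mk_eq_one, GeneralLinearGroup.center_eq_range_scalar]
      constructor
      · rintro ⟨⟨u, rfl⟩, rfl⟩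
        refine Equiv.ext fun v => ?_
        rw [hψ]
        have := sym2_scale 1 0 0 1 (u : F) v
        simp only [mul_one, mul_zero] at this
        simp [this, sym2_one, smul_smul]
        rw [show ((u : F) * u) ^ (2 * k) * u ^ 2 = u ^ (2 * (2 * k + 1)) by ring,
          hpow _ u.ne_zero, one_smul]
      · intro h
        have e := fun v => (hψ g s v).symm.trans (congrArg (· v) h)
        have e1 := e (1, 0, 0)
        have e2 := e (0, 1, 0)
        have e3 := e (0, 0, 1)
        have hl : ((s : Fˣ) : F) * (g 0 0 * g 1 1 - g 0 1 * g 1 0) ^ (2 * k) ≠ 0 :=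
          mul_ne_zero (Units.ne_zero _) (pow_ne_zero _ (hdet g))
        generalize hl' : ((s : Fˣ) : F) * (g 0 0 * g 1 1 - g 0 1 * g 1 0) ^ (2 * k) = l
          at e1 e2 e3 hl
        simp [sym2, hl] at e1 e2 e3
        have hc := e1.2.2
        have hb := e3.1
        have ha : g 0 0 ≠ 0 := fun h0 => by simp [h0] at e1
        have hd : g 1 1 = g 0 0 := by
          apply mul_left_cancel₀ (mul_ne_zero hl ha)
          have := e2.2.1
          rw [hb] at this
          linear_combination this - e1.1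
        refine ⟨⟨Units.mk0 _ ha, ?_⟩, ?_⟩
        · ext i j
          fin_cases i <;> fin_cases j <;> simp [hb, hc, hd]
        · apply Subtype.ext
          apply Units.ext
          have := e1.1
          rw [← hl', hb, hd] at this
          have h2 := hpow _ ha
          simp only [OneMemClass.coe_one, Units.val_one]
          linear_combination this - ((s : Fˣ) : F) * h2)
    have : IsCyclic S := inferInstance
    exact ⟨e.trans (MulEquiv.prodCongr (MulEquiv.refl _) (mulEquivOfCyclicCardEq (by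
      rw [hS, Nat.card_congr Multiplicative.toAdd, Nat.card_zmod])))⟩

end H9
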