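import Cfsg.Agent.H9.Sp4b
import Cfsg.Agent.H9.Sp4d
import Cfsg.Agent.H9.Gasch

set_option autoImplicit false

namespace H9

open Subgroup Equiv

variable {F : Type*} [Field F]

namespace HC

/-- the elements of the abelian unipotent radical -/
def m0 (v : V3 F) : HC F := ⟨-v.2.1, 0, v.2.2, 1, v.1, 0, 1, by ring⟩

theorem m0_add (a b : V3 F) : m0 (a + b) = m0 a * m0 b := by
  ext <;> simp [m0] <;> ring

theorem m0_injective : Function.Injective (m0 : V3 F → HC F) := by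
  intro a b e
  have e1 := congrArg HC.u e
  have e2 := congrArg HC.z e
  have e3 := congrArg HC.b e
  simp [m0] at e1 e2 e3
  exact Prod.ext e3 (Prod.ext e1 e2)

theorem m0_zz (z : F) : m0 (0, 0, z) = zz z := by
  ext <;> simp [m0, zz]

theorem conj_m0 {g : HC F} (hc : g.c = 0) (v : V3 F) :
    g * m0 v * g⁻¹ = m0 (bo g.a (g.a * g.v) v) := by
  have hd := g.det
  rw [hc, mul_zero, sub_zero] at hd
  rw [mul_inv_eq_iff_eq_mul]
  ext <;> simp [m0, bo, hc]
  · ring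
  · ring
  · linear_combination (-g.a * v.1) * hd

theorem c_eq_zero {g : HC F} {w : V3 F} (h : g * m0 (1, 0, 0) * g⁻¹ = m0 w) : g.c = 0 := by
  have := congrArg HC.c h
  simp [m0] at this
  exact mul_self_eq_zero.1 (by linear_combination -this)

/-- the abelian unipotent radical -/
def M0 (F : Type*) [Field F] : Subgroup (HC F) where
  carrier := {g | g ∈ U F ∧ g.v = 0}
  one_mem' := ⟨one_mem _, rfl⟩
  mul_mem' := fun {g h} hg hh => ⟨mul_mem hg.1 hh.1, by simp [hg.2, hh.2, hg.1.1]⟩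
  inv_mem' := fun {g} hg => ⟨inv_mem hg.1, by simp [hg.2, hg.1.1]⟩

theorem mem_M0 {g : HC F} : g ∈ M0 F ↔ ∃ v, m0 v = g := by
  constructor
  · rintro ⟨⟨h1, h2, h3⟩, h4⟩
    exact ⟨(g.b, -g.u, g.z), by ext <;> simp [m0, h1, h2, h3, h4]⟩
  · rintro ⟨v, rfl⟩
    exact ⟨⟨rfl, rfl, rfl⟩, rfl⟩

theorem card_M0 : Nat.card (M0 F) = Nat.card F ^ 3 := by
  rw [← Nat.card_congr (Equiv.ofBijective (fun v : V3 F => (⟨m0 v, mem_M0.2 ⟨v, rfl⟩⟩ : M0 F))
    ⟨fun a b e => m0_injective (congrArg Subtype.val e),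
      fun g => (mem_M0.1 g.2).imp fun v hv => Subtype.ext hv⟩)]
  simp only [Nat.card_prod]
  ring

theorem eq_M0 [Finite F] (h2 : (2 : F) ≠ 0) {A : Subgroup (HC F)} (hA : A ≤ U F)
    (hc : ∀ a ∈ A, ∀ b ∈ A, a * b = b * a) (hcard : Nat.card A = Nat.card F ^ 3) : A = M0 F := by
  refine Subgroup.eq_of_le_of_card_ge (fun y hy => ⟨hA hy, ?_⟩) (by rw [hcard, card_M0])
  by_contra hv
  have := Nat.card_le_card_of_injective (fun g : A => (g.1.v, g.1.z)) (by
    rintro ⟨g, hg⟩ ⟨k, hk⟩ e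
    simp only [Prod.mk.injEq] at e
    obtain ⟨y1, y2, y3⟩ := hA hy
    obtain ⟨g1, g2, g3⟩ := hA hg
    obtain ⟨k1, k2, k3⟩ := hA hk
    have a1 := congrArg HC.u (hc y hy g hg)
    have a2 := congrArg HC.z (hc y hy g hg)
    have b1 := congrArg HC.u (hc y hy k hk)
    have b2 := congrArg HC.z (hc y hy k hk)
    simp only [mul_u, mul_z, y1, y2, y3, g1, g2, g3, k1, k2, k3, e.1, e.2] at a1 a2 b1 b2
    have e1 : g.b = k.b := by
      apply mul_right_cancel₀ hv
      linear_combination b1 - a1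
    have e2 : g.u = k.u := by
      apply mul_right_cancel₀ (mul_ne_zero h2 hv)
      rw [e1] at a2
      linear_combination b2 - a2
    ext <;> simp [e.1, e.2, e1, e2, g1, g2, g3, k1, k2, k3])
  rw [hcard, Nat.card_prod] at this
  have h1 : 1 < Nat.card F := Finite.one_lt_card
  nlinarith [Nat.mul_lt_mul_of_lt_of_le h1 (le_refl (Nat.card F * Nat.card F)) (by positivity)]

/-- the projection of `U` to `M0` -/
def pr (g : HC F) : HC F := m0 (g.b, -(g.u - g.b * g.v), g.z - g.u * g.v + g.b * g.v ^ 2)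

theorem pr_mul {g k : HC F} (hg : g ∈ U F) (hk : k ∈ U F) :
    pr (g * k) = pr g * (g * pr k * g⁻¹) := by
  obtain ⟨g1, g2, g3⟩ := hg
  obtain ⟨k1, k2, k3⟩ := hk
  ext <;> simp [pr, m0, g1, g2, g3, k1, k2, k3] <;> ring

theorem pr_m0 (v : V3 F) : pr (m0 v) = m0 v := by
  ext <;> simp [pr, m0]

theorem pow_a {g : HC F} (hc : g.c = 0) (k : ℕ) : (g ^ k).c = 0 ∧ (g ^ k).a = g.a ^ k := by
  induction k with
  | zero => simp
  | succ k ih => simp [pow_succ, ih.1, ih.2, hc]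

theorem mem_U_of_pow [Finite F] {p n j : ℕ} (hp : p.Prime) (hn : 1 ≤ n) (hF : Nat.card F = p ^ n)
    {g : HC F} (hc : g.c = 0) (hg : g ^ p ^ j = 1) : g ∈ U F := by
  have hd := g.det
  rw [hc, mul_zero, sub_zero] at hd
  have ha : g.a ≠ 0 := left_ne_zero_of_mul_eq_one hd
  have h1 := (pow_a hc (p ^ j)).2
  rw [hg, one_a] at h1
  have h2 := pow_card_eq_one' (x := Units.mk0 _ ha)
  rw [Nat.card_units, hF] at h2
  have h3 : g.a ^ (p ^ n - 1) = 1 := congrArg Units.val h2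
  have h4 : (p ^ j).Coprime (p ^ n - 1) := by
    apply Nat.Coprime.pow_left
    rw [hp.coprime_iff_not_dvd]
    intro h5
    have := (Nat.dvd_sub_iff_right (Nat.one_le_pow _ _ hp.pos) (dvd_pow_self p (by omega))).1 h5
    exact hp.one_lt.ne' (Nat.dvd_one.1 this)
  have h5 := (pow_eq_one_iff_of_coprime h4).1 ⟨h1.symm, h3⟩
  exact ⟨hc, h5, by rwa [h5, one_mul] at hd⟩

end HC

open HC

theorem sp4_main {G : Type*} [Group G] [Finite G] [Finite F] {p n k : ℕ} [hp : Fact p.Prime]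
    (hn : 1 ≤ n) (hF : Nat.card F = p ^ n) (hk : Nat.card F = 4 * k + 3)
    (ι : HC F →* G) (hι : Function.Injective ι)
    (hb : ∀ z : F, z ≠ 0 → centralizer {ι (zz z)} = ι.range)
    (P : Sylow p G) (hP : (P : Subgroup G) = (U F).map ι)
    (hc : ∃ z₁ z₂ : F, z₁ ≠ 0 ∧ z₂ ≠ 0 ∧ ∀ g : G, g * ι (zz z₁) * g⁻¹ ≠ ι (zz z₂))
    (M : Subgroup G) (hM : M = (M0 F).map ι)
    (hnc : ∃ Q R : Sylow p ↥(normalizer (M : Set G)), Q ≠ R) :
    ∃ J : Subgroup G, J ≤ normalizer (M : Set G) ∧ M ⊔ J = normalizer (M : Set G) ∧ M ⊓ J = ⊥ ∧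
      Nonempty (↥J ≃* (Matrix.ProjGenLinGroup (Fin 2) F × Multiplicative (ZMod (2 * k + 1)))) := by
  classical
  have := Fintype.ofFinite F
  have hk' : Fintype.card F % 4 = 3 := by rw [← Nat.card_eq_fintype_card, hk]; omega
  have hch : ringChar F ≠ 2 := fun h => by
    have := FiniteField.even_card_of_char_two h
    omega
  have h2 : (2 : F) ≠ 0 := Ring.two_ne_zero hch
  have hns : ¬ IsSquare (-1 : F) := by rw [FiniteField.isSquare_neg_one_iff]; simpa using hk'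
  set N := normalizer (M : Set G) with hN
  have hmem : ∀ g, g ∈ M ↔ ∃ v, ι (m0 v) = g := fun g => by
    rw [hM]
    exact ⟨fun ⟨a, ha, e⟩ => (mem_M0.1 ha).imp fun v hv => by rw [hv, e],
      fun ⟨v, hv⟩ => ⟨_, mem_M0.2 ⟨v, rfl⟩, hv⟩⟩
  let e : V3 F ≃ M := Equiv.ofBijective (fun v => ⟨ι (m0 v), (hmem _).2 ⟨v, rfl⟩⟩)
    ⟨fun a b h => m0_injective (hι (congrArg Subtype.val h)),
      fun g => ((hmem _).1 g.2).imp fun v hv => Subtype.ext hv⟩
  let ρ : N →* Perm (V3 F) := e.symm.permCongrHom.toMonoidHom.comp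
    ((MulAut.toPerm M).comp M.normalizerMonoidHom)
  have hρ : ∀ (g : N) (v : V3 F), ι (m0 (ρ g v)) = g * ι (m0 v) * g⁻¹ := by
    intro g v
    have : e (ρ g v) = M.normalizerMonoidHom g (e v) := by simp [ρ]; rfl
    exact congrArg Subtype.val this
  have hρ' : ∀ (g : N) (v w : V3 F), (g : G) * ι (m0 v) * g⁻¹ = ι (m0 w) → ρ g v = w :=
    fun g v w h => m0_injective (hι ((hρ g v).trans h))
  have hB : ∀ g : HC F, g.c = 0 → ι g ∈ N := fun g hg => by
    apply mem_normalizer_of_conj_mem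
    intro a ha
    obtain ⟨v, rfl⟩ := (hmem a).1 ha
    rw [← map_inv, ← map_mul, ← map_mul, conj_m0 hg]
    exact (hmem _).2 ⟨_, rfl⟩
  have hB' : ∀ (g : HC F) (hg : g.c = 0) (v : V3 F), ρ ⟨ι g, hB g hg⟩ v = bo g.a (g.a * g.v) v :=
    fun g hg v => hρ' _ _ _ (by
      rw [← conj_m0 hg, map_mul, map_mul, map_inv]; rfl)
  have hC : ∀ g : HC F, ι g ∈ N → g.c = 0 := fun g hg => by
    have := hρ ⟨_, hg⟩ (1, 0, 0)
    exact c_eq_zero (w := ρ ⟨_, hg⟩ (1, 0, 0)) (hι (by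
      rw [this, map_mul, map_mul, map_inv]; rfl))
  have hfix : ∀ (g : N) (z : F), z ≠ 0 → ρ g (0, 0, z) = (0, 0, z) →
      ∃ (a : HC F) (ha : a.c = 0), g = ⟨ι a, hB a ha⟩ := by
    intro g z hz h
    have h1 := hρ g (0, 0, z)
    rw [h, m0_zz] at h1
    have h3 : (g : G) ∈ centralizer {ι (zz z)} := mem_Cen'.2 h1.symm
    rw [hb z hz] at h3
    obtain ⟨a, ha⟩ := h3
    exact ⟨a, hC a (ha ▸ g.2), Subtype.ext ha.symm⟩
  have hGH : GH ρ.range :=
    { two := h2
      sq := fun a ha => by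
        by_cases h : IsSquare a
        · obtain ⟨r, hr⟩ := h
          exact Or.inl ⟨r, by rw [hr, pow_two]⟩
        · have h3 : IsSquare (-a) := by
            rw [← quadraticChar_one_iff_isSquare (neg_ne_zero.2 ha), ← neg_one_mul, map_mul,
              quadraticChar_neg_one_iff_not_isSquare.2 h,
              quadraticChar_neg_one_iff_not_isSquare.2 hns]
            norm_num
          obtain ⟨r, hr⟩ := h3
          exact Or.inr ⟨r, by rw [pow_two, ← hr, neg_neg]⟩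
      nsq := fun r hr => hns ⟨r, by rw [← hr, pow_two]⟩
      add := by
        rintro _ ⟨g, rfl⟩ a b
        apply hρ'
        rw [m0_add, m0_add, map_mul, map_mul, hρ, hρ]
        simp [mul_assoc]
      exB := fun τ s hτ => ⟨_, ⟨⟨ι ⟨0, τ⁻¹ * s, 0, τ, 0, 0, τ⁻¹, by simp [hτ]⟩, hB _ rfl⟩, rfl⟩,
        fun v => by rw [hB' _ rfl]; simp [hτ]⟩
      fix := by
        rintro _ ⟨g, rfl⟩ z hz h
        obtain ⟨a, ha, rfl⟩ := hfix g z hz h
        have hd := a.det
        rw [ha, mul_zero, sub_zero] at hd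
        exact ⟨_, _, left_ne_zero_of_mul_eq_one hd, hB' a ha⟩
      nt := by
        obtain ⟨z₁, z₂, h3, h4, h5⟩ := hc
        refine ⟨z₁, z₂, h3, h4, ?_⟩
        rintro _ ⟨g, rfl⟩ h
        have h1 := hρ g (0, 0, z₁)
        rw [h, m0_zz, m0_zz] at h1
        exact h5 g h1.symm }
  have hPN : (P : Subgroup G) ≤ N := by
    rw [hP]
    rintro _ ⟨a, ha, rfl⟩
    exact hB a ha.1
  have hex : ∃ γ ∈ ρ.range, ¬ NZ γ := by
    by_contra hcon
    push Not at hcon
    obtain ⟨Q, R, hQR⟩ := hnc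
    have hnorm : ((P.subtype hPN : Sylow p N) : Subgroup N).Normal := by
      refine ⟨fun y hy g => ?_⟩
      change ((g * y * g⁻¹ : N) : G) ∈ (P : Subgroup G)
      have hy' : (y : G) ∈ (P : Subgroup G) := hy
      obtain ⟨j, hj⟩ := P.isPGroup' ⟨_, hy'⟩
      have hj' : (y : G) ^ p ^ j = 1 := congrArg Subtype.val hj
      rw [hP] at hy' ⊢
      obtain ⟨a, ha, e1⟩ := hy'
      obtain ⟨z, hz⟩ := hcon _ ⟨g⁻¹, rfl⟩ 1
      have e2 : y = ⟨ι a, hB a ha.1⟩ := Subtype.ext e1.symm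
      obtain ⟨b, hb', e3⟩ := hfix (g * y * g⁻¹) 1 one_ne_zero (by
        rw [map_mul, map_mul, Perm.mul_apply, Perm.mul_apply, hz, e2, hB' a ha.1,
          show bo a.a (a.a * a.v) (0, 0, z) = (0, 0, z) by simp [bo], ← hz, map_inv, pai])
      have e4 : ι b = g * y * (g : G)⁻¹ := (congrArg Subtype.val e3).symm
      refine ⟨b, mem_U_of_pow hp.out hn hF hb' (j := j) (hι ?_), e4⟩
      rw [map_pow, e4, conj_pow, hj', map_one]
      simp
    have := Sylow.unique_of_normal _ hnorm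
    exact hQR (Subsingleton.elim _ _)
  have hker : ∀ g : N, ρ g = 1 ↔ (g : G) ∈ M := by
    intro g
    constructor
    · intro h
      obtain ⟨a, ha, rfl⟩ := hfix g 1 one_ne_zero (by rw [h]; rfl)
      have e1 := hB' a ha (0, 1, 0)
      have e2 := hB' a ha (1, 0, 0)
      rw [h] at e1 e2
      simp [bo] at e1 e2
      have hd := a.det
      rw [ha, mul_zero, sub_zero, ← e1.1, one_mul] at hd
      rw [hM]
      refine ⟨a, ⟨⟨ha, e1.1.symm, hd⟩, ?_⟩, rfl⟩
      simpa [← e1.1] using e2.2.1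
    · intro h
      obtain ⟨w, hw⟩ := (hmem _).1 h
      refine Equiv.ext fun v => hρ' _ _ _ ?_
      rw [Subgroup.coe_inv, ← hw, ← map_mul, ← m0_add, add_comm, m0_add, map_mul]
      simp
  have hMN : M ≤ N := le_normalizer
  have hMP : M ≤ P := by rw [hM, hP]; exact map_mono fun a ha => ha.1
  obtain ⟨J, hJ1, hJ2⟩ := gaschutz_aux (M.subgroupOf N) ((P : Subgroup G).subgroupOf N)
    (fun a ha b hb => by
      obtain ⟨v, hv⟩ := (hmem _).1 (mem_subgroupOf.1 ha)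
      obtain ⟨w, hw⟩ := (hmem _).1 (mem_subgroupOf.1 hb)
      apply Subtype.ext
      rw [Subgroup.coe_mul, Subgroup.coe_mul, ← hv, ← hw, ← map_mul, ← map_mul, ← m0_add,
        ← m0_add, add_comm])
    (comap_mono hMP)
    (by
      rw [Nat.card_congr (subgroupOfEquivOfLe hMN).toEquiv, hM,
        ← Nat.card_congr (equivMapOfInjective _ _ hι).toEquiv, card_M0, hF, ← pow_mul]
      exact Nat.Coprime.pow_left _ ((Nat.Prime.coprime_iff_not_dvd hp.out).2
        (P.subtype hPN).not_dvd_index))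
    (fun g => ⟨ι (pr (Function.invFun ι g)), hMN ((hmem _).2 ⟨_, rfl⟩)⟩)
    (fun g _ => (hmem _).2 ⟨_, rfl⟩)
    (fun g hg g' hg' => by
      have h3 := mem_subgroupOf.1 hg
      have h4 := mem_subgroupOf.1 hg'
      rw [hP] at h3 h4
      obtain ⟨a, ha, e1⟩ := h3
      obtain ⟨b, hb, e2⟩ := h4
      apply Subtype.ext
      simp only [Subgroup.coe_mul, Subgroup.coe_inv, ← e1, ← e2, ← map_mul, ← map_inv,
        Function.leftInverse_invFun hι _, pr_mul ha hb])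
    (fun g hg => by
      obtain ⟨v, hv⟩ := (hmem _).1 (mem_subgroupOf.1 hg)
      apply Subtype.ext
      simp only [← hv, Function.leftInverse_invFun hι _, pr_m0])
  obtain ⟨σ, hσ⟩ := hGH.main hex
  obtain ⟨R, hR, ⟨eR⟩⟩ := exists_sym_iso hk
  let χ : J →* Perm (V3 F) := (MulAut.conj σ⁻¹).toMonoidHom.comp (ρ.comp J.subtype)
  have hχ : Function.Injective χ := by
    rw [injective_iff_map_eq_one]
    intro g hg
    have h1 : ρ g = 1 := (MulAut.conj σ⁻¹).injective (hg.trans (map_one _).symm)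
    have h3 : (g : N) ∈ M.subgroupOf N ⊓ J := ⟨(hker _).1 h1, g.2⟩
    rw [hJ2] at h3
    exact Subtype.ext h3
  have hχR : χ.range = R := by
    ext γ
    rw [hR, ← hσ]
    constructor
    · rintro ⟨g, rfl⟩
      exact ⟨g, by simp [χ, mul_assoc]⟩
    · rintro ⟨g, hg⟩
      have h1 : g ∈ M.subgroupOf N ⊔ J := hJ1 ▸ mem_top g
      obtain ⟨a, ha, b, hb, rfl⟩ := mem_sup_of_normal_left.1 h1
      rw [map_mul, (hker a).2 ha, one_mul] at hg
      exact ⟨⟨b, hb⟩, by simp [χ, hg, mul_assoc]⟩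
  refine ⟨J.map N.subtype, map_subtype_le J, ?_, ?_, ⟨?_⟩⟩
  · have := congrArg (Subgroup.map N.subtype) hJ1
    rwa [Subgroup.map_sup, subgroupOf_map_subtype, inf_eq_left.2 hMN, ← MonoidHom.range_eq_map,
      range_subtype] at this
  · rw [eq_bot_iff]
    rintro _ ⟨h1, a, ha, rfl⟩
    have h3 : a ∈ M.subgroupOf N ⊓ J := ⟨h1, ha⟩
    rw [hJ2, mem_bot] at h3
    simp [h3]
  · exact (equivMapOfInjective J _ N.subtype_injective).symm.trans
      ((MonoidHom.ofInjective hχ).trans ((MulEquiv.subgroupCongr hχR).trans eR))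

end H9
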